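import Mathlib
import Cfsg.Agent.Lib.Invol.Dihedral

/-!
# Involution sets with pairwise products of order one, two or a fixed odd prime
-/

set_option autoImplicit false

namespace CfsgLib.PTransp

variable {G : Type*} [Group G] {p : ℕ} {D : Set G}

/-- A conjugation-invariant set of involutions with products of order dividing `2` or `p`. -/
structure IsPT (p : ℕ) (D : Set G) : Prop where
  ord : ∀ d ∈ D, orderOf d = 2
  conj : ∀ g : G, ∀ d ∈ D, g * d * g⁻¹ ∈ D
  prod : ∀ d ∈ D, ∀ e ∈ D, (d * e) ^ 2 = 1 ∨ (d * e) ^ p = 1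

theorem pow_half {w : G} (hp : Odd p) (h : w ^ p = 1) : (w ^ 2) ^ ((p + 1) / 2) = w := by
  obtain ⟨j, rfl⟩ := hp
  rw [← pow_mul, show 2 * ((2 * j + 1 + 1) / 2) = (2 * j + 1) + 1 by omega, pow_succ, h, one_mul]

theorem eq_one_of_two_of_odd {w : G} (hp : Odd p) (h2 : w ^ 2 = 1) (h : w ^ p = 1) : w = 1 := by
  rw [← pow_half hp h, h2, one_pow]

namespace IsPT

variable (hD : IsPT p D)
include hD

theorem sq {d : G} (hd : d ∈ D) : d * d = 1 := by
  have h := pow_orderOf_eq_one d
  rwa [hD.ord d hd, pow_two] at h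

theorem inv_eq {d : G} (hd : d ∈ D) : d⁻¹ = d := inv_eq_of_mul_eq_one_right (hD.sq hd)

theorem cancel {d : G} (hd : d ∈ D) (g : G) : d * (d * g) = g := by rw [← mul_assoc, hD.sq hd, one_mul]

theorem ne_one {d : G} (hd : d ∈ D) : d ≠ 1 := fun h => by
  have := hD.ord d hd
  rw [h, orderOf_one] at this
  omega

theorem cj_mem {d e : G} (hd : d ∈ D) (he : e ∈ D) : d * e * d ∈ D := by
  have := hD.conj d e he
  rwa [hD.inv_eq hd] at this

theorem commute_iff {d e : G} (hd : d ∈ D) (he : e ∈ D) : Commute d e ↔ (d * e) ^ 2 = 1 := by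
  constructor
  · intro h
    rw [h.mul_pow, pow_two, pow_two, hD.sq hd, hD.sq he, one_mul]
  · intro h
    rw [pow_two] at h
    have h1 : d * e = e⁻¹ * d⁻¹ := by rw [← mul_inv_rev]; exact eq_inv_of_mul_eq_one_left h
    rwa [hD.inv_eq hd, hD.inv_eq he] at h1

theorem pow_p {d e : G} (hd : d ∈ D) (he : e ∈ D) (h : ¬Commute d e) : (d * e) ^ p = 1 :=
  (hD.prod d hd e he).resolve_left fun h2 => h ((hD.commute_iff hd he).2 h2)

theorem eq_of_commute_of_pow {d e : G} (hp : Odd p) (hd : d ∈ D) (he : e ∈ D) (h : Commute d e)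
    (hpow : (d * e) ^ p = 1) : d = e := by
  have h1 := eq_one_of_two_of_odd hp ((hD.commute_iff hd he).1 h) hpow
  rw [← hD.inv_eq he]
  exact eq_inv_of_mul_eq_one_left h1

theorem conj_zpow {d e : G} (hd : d ∈ D) (he : e ∈ D) (k : ℤ) :
    d * (d * e) ^ k * d = (d * e) ^ (-k) := by
  have := CfsgLib.Invol.conj_mul_zpow (hD.ord d hd) (hD.ord e he) k
  rwa [hD.inv_eq hd] at this

theorem conj_eq_inv {d e : G} (hd : d ∈ D) (he : e ∈ D) : d * (d * e) * d = (d * e)⁻¹ := by
  simpa using hD.conj_zpow hd he 1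

theorem mul_zpow_mem {d e : G} (hd : d ∈ D) (he : e ∈ D) (i : ℤ) : d * (d * e) ^ (2 * i) ∈ D := by
  have h := hD.conj ((d * e) ^ (-i)) d hd
  rwa [CfsgLib.Invol.conj_zpow_self (hD.ord d hd) (hD.ord e he), show -2 * -i = 2 * i by ring] at h

theorem mul_pow_mem {d e : G} (hp : Odd p) (hd : d ∈ D) (he : e ∈ D) (h : ¬Commute d e) (k : ℕ) :
    d * (d * e) ^ k ∈ D := by
  obtain ⟨j, rfl⟩ := hp
  have hm := hD.mul_zpow_mem hd he ((k * (j + 1) : ℕ) : ℤ)
  rw [show (2 : ℤ) * ((k * (j + 1) : ℕ) : ℤ) = ((k + (2 * j + 1) * k : ℕ) : ℤ) by push_cast; ring,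
    zpow_natCast, pow_add, pow_mul, hD.pow_p hd he h, one_pow, mul_one] at hm
  exact hm

theorem exists_mid {d e : G} (hp : Odd p) (hd : d ∈ D) (he : e ∈ D) (h : ¬Commute d e) :
    ∃ m ∈ D, m * d * m = e := by
  refine ⟨d * (d * e) ^ ((p + 1) / 2), hD.mul_pow_mem hp hd he h _, ?_⟩
  have h1 : ((d * e) ^ ((p + 1) / 2)) ^ 2 = d * e := by
    rw [← pow_mul, mul_comm, pow_mul]
    exact pow_half hp (hD.pow_p hd he h)
  calc d * (d * e) ^ ((p + 1) / 2) * d * (d * (d * e) ^ ((p + 1) / 2))
      = d * ((d * e) ^ ((p + 1) / 2)) ^ 2 := by rw [pow_two]; simp [mul_assoc, hD.cancel hd]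
    _ = e := by rw [h1, hD.cancel hd]

theorem not_commute_cj {d e : G} (hp : Odd p) (hd : d ∈ D) (he : e ∈ D) (h : ¬Commute d e) :
    ¬Commute e (d * e * d) := fun hc => by
  have h1 := (hD.commute_iff he (hD.cj_mem hd he)).1 hc
  rw [show e * (d * e * d) = (e * d) ^ 2 by rw [pow_two]; simp [mul_assoc]] at h1
  have h2 := hD.pow_p he hd fun h' => h h'.symm
  have h3 := eq_one_of_two_of_odd hp h1 (by rw [← pow_mul, mul_comm, pow_mul, h2, one_pow])
  exact h ((hD.commute_iff he hd).2 h3).symm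

/-- An element commuting with the product of a non-commuting pair commutes with both. -/
theorem commute_of_commute_mul {d e x : G} (hp : Odd p) (hd : d ∈ D) (he : e ∈ D) (hx : x ∈ D)
    (h : ¬Commute d e) (hc : Commute x (d * e)) : Commute x d ∧ Commute x e := by
  have hxd : Commute x d := by
    by_contra hn
    set r := d * e with hr
    have hdr : d * r * d = r⁻¹ := hD.conj_eq_inv hd he
    have hdr' : d * r⁻¹ * d = r := by rw [← hdr]; simp [mul_assoc, hD.cancel hd, hD.sq hd]
    have hxr : x * r⁻¹ * x = r⁻¹ := by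
      rw [hc.inv_right.eq, mul_assoc, hD.sq hx, mul_one]
    have e1 : (x * d * x) * r * (x * d * x) = r⁻¹ := by
      calc (x * d * x) * r * (x * d * x) = x * (d * (x * r * x) * d) * x := by simp [mul_assoc]
        _ = r⁻¹ := by rw [show x * r * x = r by rw [hc.eq, mul_assoc, hD.sq hx, mul_one], hdr, hxr]
    have e2 : Commute ((d * x) ^ 2) r := by
      show (d * x) ^ 2 * r = r * (d * x) ^ 2
      have a1 : (x * d * x) * r = r⁻¹ * (x * d * x) := by
        have q : (x * d * x) * r * (x * d * x) * (x * d * x) = r⁻¹ * (x * d * x) := by rw [e1]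
        rwa [mul_assoc _ (x * d * x) (x * d * x), hD.sq (hD.cj_mem hx hd), mul_one] at q
      have a2 : d * r⁻¹ = r * d := by
        have q := congrArg (· * d) hdr'
        simpa [mul_assoc, hD.sq hd] using q
      calc (d * x) ^ 2 * r = d * ((x * d * x) * r) := by rw [pow_two]; simp [mul_assoc]
        _ = r * (d * x) ^ 2 := by rw [a1, ← mul_assoc, a2, pow_two]; simp [mul_assoc]
    have e3 : Commute (d * x) r := by
      have := e2.pow_left ((p + 1) / 2)
      rwa [pow_half hp (hD.pow_p hd hx fun h' => hn h'.symm)] at this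
    have e4 : Commute d r := by
      have := e3.mul_left hc
      rwa [mul_assoc, hD.sq hx, mul_one] at this
    refine h ((hD.commute_iff hd he).2 ?_)
    have q : r = r⁻¹ := by rw [← hdr, e4.eq, mul_assoc, hD.sq hd, mul_one]
    rw [← hr, pow_two]
    nth_rw 2 [q]
    exact mul_inv_cancel r
  refine ⟨hxd, ?_⟩
  have := hxd.mul_right hc
  rwa [hD.cancel hd] at this

/-- An element commuting with the product of a commuting pair commutes with both. -/
theorem commute_of_commute_prod {x a d : G} (hp : Odd p) (hx : x ∈ D) (ha : a ∈ D) (hd : d ∈ D)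
    (hne : x ≠ a) (hxa : Commute x a) (hc : Commute (x * a) d) : Commute d x ∧ Commute d a := by
  have key : a * d * a = x * d * x := by
    have q := congrArg (fun t => x * t * a) hc.eq
    simpa [mul_assoc, hD.cancel hx, hD.cancel ha, hD.sq ha, hxa.eq, ← mul_assoc x a] using q
  have hdx : Commute d x := by
    by_contra hn
    have hna : ¬Commute d a := fun h' => hn (by
      have q : x * d * x = d := by rw [← key, ← h'.eq, mul_assoc, hD.sq ha, mul_one]
      show d * x = x * d
      nth_rw 1 [← q]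
      rw [mul_assoc, hD.sq hx, mul_one])
    have q : (d * x) ^ 2 = (d * a) ^ 2 := by
      rw [pow_two, pow_two, show d * x * (d * x) = d * (x * d * x) by simp [mul_assoc], ← key]
      simp [mul_assoc]
    have q2 := congrArg (· ^ ((p + 1) / 2)) q
    rw [pow_half hp (hD.pow_p hd hx hn), pow_half hp (hD.pow_p hd ha hna)] at q2
    exact hne (mul_left_cancel q2)
  refine ⟨hdx, ?_⟩
  have : x * d * x = d := by rw [← hdx.eq, mul_assoc, hD.sq hx, mul_one]
  rw [this] at key
  show d * a = a * d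
  nth_rw 1 [← key]
  rw [mul_assoc, hD.sq ha, mul_one]

theorem commute_conj {d e : G} (g : G) (h : Commute d e) : Commute (g * d * g⁻¹) (g * e * g⁻¹) := by
  show _ = _
  calc g * d * g⁻¹ * (g * e * g⁻¹) = g * (d * e) * g⁻¹ := by group
    _ = g * (e * d) * g⁻¹ := by rw [h.eq]
    _ = _ := by group

theorem commute_conj_iff {d e : G} (g : G) :
    Commute (g * d * g⁻¹) (g * e * g⁻¹) ↔ Commute d e := by
  refine ⟨fun h => ?_, hD.commute_conj g⟩
  simpa [mul_assoc] using hD.commute_conj g⁻¹ h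

theorem commute_cj_iff {d e w : G} (hw : w ∈ D) :
    Commute (w * d * w) (w * e * w) ↔ Commute d e := by
  have := hD.commute_conj_iff (d := d) (e := e) w
  rwa [hD.inv_eq hw] at this

theorem subgroup (H : Subgroup G) : IsPT p (((↑) : H → G) ⁻¹' D) where
  ord := fun d hd => by rw [← Subgroup.orderOf_coe]; exact hD.ord _ hd
  conj := fun g d hd => by simpa using hD.conj (g : G) _ hd
  prod := fun d hd e he => by
    rcases hD.prod _ hd _ he with h | h
    · exact Or.inl (Subtype.ext (by simpa using h))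
    · exact Or.inr (Subtype.ext (by simpa using h))

end IsPT

end CfsgLib.PTransp
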