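import Cfsg.Agent.Lib.PTransp.Lines

/-!
# The action on blocks and a product fixing no block
-/

set_option autoImplicit false

namespace CfsgLib.PTransp

open Cfsg

variable {G : Type*} [Group G] [Finite G] {p : ℕ} {D : Set G}

/-- Commuting, as an equivalence relation on members. -/
@[instance_reducible] def Hyp.blockSetoid (hH : Hyp p D) : Setoid D where
  r a b := Commute a.1 b.1
  iseqv := ⟨fun a => Commute.refl _, fun h => h.symm, fun {a b c} h h' => hH.commute_trans b.2 c.2 a.2 h h'⟩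

/-- The blocks. -/
def Hyp.Blocks (hH : Hyp p D) : Type _ := Quotient hH.blockSetoid

instance (hH : Hyp p D) : Finite hH.Blocks := Quotient.finite hH.blockSetoid

/-- The block of a member as a point. -/
def Hyp.mkB (hH : Hyp p D) {c : G} (hc : c ∈ D) : hH.Blocks := Quotient.mk hH.blockSetoid ⟨c, hc⟩

instance (hH : Hyp p D) : MulAction G hH.Blocks where
  smul g := Quotient.map (fun a : D => (⟨g * a.1 * g⁻¹, hH.pt.conj g _ a.2⟩ : D))
    fun a b h => hH.pt.commute_conj g h
  one_smul q := by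
    induction q using Quotient.inductionOn with
    | h a => exact congrArg (Quotient.mk _) (Subtype.ext (by simp))
  mul_smul g k q := by
    induction q using Quotient.inductionOn with
    | h a => exact congrArg (Quotient.mk _) (Subtype.ext (by simp [mul_assoc]))

namespace Hyp

variable (hH : Hyp p D)
include hH

theorem mkB_eq {a b : G} {ha : a ∈ D} {hb : b ∈ D} : hH.mkB ha = hH.mkB hb ↔ Commute a b :=
  Quotient.eq (r := hH.blockSetoid)

theorem exists_mkB (q : hH.Blocks) : ∃ (c : G) (hc : c ∈ D), hH.mkB hc = q := by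
  induction q using Quotient.inductionOn with
  | h a => exact ⟨a.1, a.2, rfl⟩

theorem smul_mkB (g : G) {a : G} (ha : a ∈ D) : g • hH.mkB ha = hH.mkB (hH.pt.conj g a ha) := rfl

theorem fixes_iff (g : G) {a : G} (ha : a ∈ D) :
    g • hH.mkB ha = hH.mkB ha ↔ Commute (g * a * g⁻¹) a := hH.mkB_eq

theorem smul_invol_iff {e a b : G} (he : e ∈ D) (ha : a ∈ D) (hb : b ∈ D) :
    e • hH.mkB ha = hH.mkB hb ↔ e ∈ swapSet D a b := by
  rw [hH.smul_mkB, hH.mkB_eq, hH.pt.inv_eq he]
  exact ⟨fun h => ⟨he, h⟩, fun h => h.2⟩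

theorem fixes_invol {e a : G} (he : e ∈ D) (ha : a ∈ D) (h : e • hH.mkB ha = hH.mkB ha) : Commute e a :=
  hH.not_commute_cj' ha he ((hH.smul_invol_iff he ha ha).1 h).2.symm

theorem orderOf_prod {e f : G} (he : e ∈ D) (hf : f ∈ D) (h : ¬Commute e f) : orderOf (e * f) = p := by
  haveI := Fact.mk hH.hp
  refine orderOf_eq_prime (hH.pt.pow_p he hf h) fun h1 => h ?_
  rw [eq_inv_of_mul_eq_one_left h1, hH.pt.inv_eq hf]

end Hyp

namespace Full

variable (hF : Full p D)
include hF

/-- Some product fixes no block. -/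
theorem exists_free {x : G} (hx : x ∈ D) : ∃ d ∈ D, ∃ e ∈ D, ¬Commute d e ∧ ∀ q : hF.toHyp.Blocks, (d * e) • q ≠ q := by
  classical
  have hH := hF.toHyp
  by_contra hcon
  push Not at hcon
  haveI := Fintype.ofFinite G
  set P : Finset (G × G) := Finset.univ.filter fun u => u.1 ∈ D ∧ u.2 ∈ D ∧ ¬Commute u.1 u.2 with hP
  let R : G × G → G × G → Prop := fun u v => u.1 ∈ swapSet D v.1 v.2 ∧ u.2 ∈ swapSet D v.1 v.2
  have hlow : ∀ u ∈ P, p * p ≤ (P.bipartiteAbove R u).card := by
    intro u hu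
    obtain ⟨hd, he, hde⟩ := (Finset.mem_filter.1 hu).2
    obtain ⟨q, hq⟩ := hcon u.1 hd u.2 he hde
    obtain ⟨c, hc, rfl⟩ := hH.exists_mkB q
    obtain ⟨hcc, s1, s2⟩ := hF.pair_mem hd he hc hde ((hH.fixes_iff _ hc).1 hq)
    have hc' := hH.pt.cj_mem hd hc
    have hsub : ((block D c).toFinset ×ˢ (block D (u.1 * c * u.1)).toFinset) ⊆ P.bipartiteAbove R u := by
      intro v hv
      rw [Finset.mem_product, Set.mem_toFinset, Set.mem_toFinset] at hv
      obtain ⟨⟨v1, h1⟩, v2, h2⟩ := hv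
      have hne : ¬Commute v.1 v.2 := fun h => hcc
        (hH.commute_trans v2 hc' hc (hH.commute_trans v1 v2 hc h1.symm h) h2)
      have tr : ∀ {e : G}, e ∈ swapSet D c (u.1 * c * u.1) → e ∈ swapSet D v.1 v.2 := fun {e} hs =>
        ⟨hs.1, hH.commute_trans hc' v2 (hH.pt.cj_mem hs.1 v1)
          (hH.commute_trans (hH.pt.cj_mem hs.1 hc) hc' (hH.pt.cj_mem hs.1 v1)
            ((hH.pt.commute_cj_iff hs.1).2 h1) hs.2) h2.symm⟩
      rw [Finset.mem_bipartiteAbove]
      exact ⟨Finset.mem_filter.2 ⟨Finset.mem_univ _, v1, v2, hne⟩, tr s1, tr s2⟩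
    have := Finset.card_le_card hsub
    rwa [Finset.card_product, ← Set.ncard_eq_toFinset_card', ← Set.ncard_eq_toFinset_card',
      hF.ncard_block hc, hF.ncard_block hc'] at this
  have hup : ∀ v ∈ P, (P.bipartiteBelow R v).card ≤ p * p - p := by
    intro v hv
    obtain ⟨h1, h2, h12⟩ := (Finset.mem_filter.1 hv).2
    have hsub : P.bipartiteBelow R v ⊆ (swapSet D v.1 v.2).toFinset.offDiag := by
      intro u hu
      rw [Finset.mem_bipartiteBelow] at hu
      obtain ⟨-, -, hn⟩ := (Finset.mem_filter.1 hu.1).2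
      rw [Finset.mem_offDiag, Set.mem_toFinset, Set.mem_toFinset]
      exact ⟨hu.2.1, hu.2.2, fun h => hn (h ▸ Commute.refl _)⟩
    have := Finset.card_le_card hsub
    rwa [Finset.offDiag_card, ← Set.ncard_eq_toFinset_card', hF.ncard_swap h1 h2 h12, hF.ncard_block h2] at this
  have := Finset.card_mul_le_card_mul R hlow hup
  have hne : 0 < P.card := by
    obtain ⟨a, ha, hn⟩ := hH.exists_not_commute hx
    exact Finset.card_pos.2 ⟨(a, x), Finset.mem_filter.2 ⟨Finset.mem_univ _, ha, hx, hn⟩⟩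
  have h3 := Nat.le_of_mul_le_mul_left this hne
  have := hH.five
  have : p ≤ p * p := Nat.le_mul_self p
  omega

end Full

end CfsgLib.PTransp
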