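import Cfsg.Agent.Lib.PTransp.Basic
import Cfsg.Agent.Lib.Invol.IsolatedSylow

/-!
# Pairwise non-commuting sets: the cardinality is a prime power
-/

set_option autoImplicit false

namespace CfsgLib.PTransp

open Cfsg

variable {H : Type*} [Group H] [Finite H] {p : ℕ}

omit [Finite H] in
theorem isolated_of_coclique {S : Set H} (hS : IsPT p S) (hp : Odd p)
    (hpair : ∀ d ∈ S, ∀ e ∈ S, Commute d e → d = e) {x : H} (hx : x ∈ S) : IsIsolatedInvolution x :=
  ⟨hS.ord x hx, fun g hc => (hpair _ hx _ (hS.conj g x hx) hc).symm⟩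

/-- A pairwise non-commuting generating set has prime power cardinality. -/
theorem ncard_coclique {S : Set H} (hS : IsPT p S) (hp : p.Prime) (hodd : Odd p)
    (hgen : Subgroup.closure S = ⊤) (hne : S.Nonempty)
    (hpair : ∀ d ∈ S, ∀ e ∈ S, Commute d e → d = e) : ∃ k, S.ncard = p ^ k := by
  classical
  obtain ⟨x, hx⟩ := hne
  have hiso := isolated_of_coclique hS hodd hpair hx
  have horb : MulAction.orbit (ConjAct H) x = S := by
    ext e
    rw [ConjAct.mem_orbit_conjAct, isConj_comm, isConj_iff]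
    constructor
    · rintro ⟨g, rfl⟩; exact hS.conj g x hx
    · intro he
      by_cases h : Commute x e
      · exact ⟨1, by simp [hpair x hx e he h]⟩
      · obtain ⟨m, hm, e'⟩ := hS.exists_mid hodd hx he h
        exact ⟨m, by rw [hS.inv_eq hm, e']⟩
  have hidx : (Subgroup.centralizer ({x} : Set H)).index = S.ncard := by
    have e := MulAction.index_stabilizer (ConjAct H) x
    rw [horb, ConjAct.stabilizer_eq_centralizer] at e
    exact e
  -- odd
  have hoddS : ¬ 2 ∣ S.ncard := by
    haveI := Fact.mk Nat.prime_two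
    letI : MulAction (Subgroup.zpowers x) S :=
      { smul := fun g d => ⟨(g : H) * d.1 * (g : H)⁻¹, hS.conj _ _ d.2⟩
        one_smul := fun d => Subtype.ext (by
          show (1 : H) * d.1 * (1 : H)⁻¹ = d.1; simp)
        mul_smul := fun g k d => Subtype.ext (by
          show ((g * k : Subgroup.zpowers x) : H) * d.1 * ((g * k : Subgroup.zpowers x) : H)⁻¹ =
            (g : H) * ((k : H) * d.1 * (k : H)⁻¹) * (g : H)⁻¹
          simp [mul_assoc]) }
    have hpg : IsPGroup 2 (Subgroup.zpowers x) :=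
      IsPGroup.of_card (n := 1) (by rw [Nat.card_zpowers, hS.ord x hx, pow_one])
    have hm := hpg.card_modEq_card_fixedPoints S
    have hfix : MulAction.fixedPoints (Subgroup.zpowers x) S = {⟨x, hx⟩} := by
      ext d
      simp only [MulAction.mem_fixedPoints, Set.mem_singleton_iff]
      constructor
      · intro h
        have h1 := congrArg Subtype.val (h ⟨x, Subgroup.mem_zpowers x⟩)
        refine Subtype.ext (hpair x hx d.1 d.2 ?_).symm
        exact mul_inv_eq_iff_eq_mul.1 h1
      · rintro rfl g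
        refine Subtype.ext ?_
        show (g : H) * x * (g : H)⁻¹ = x
        obtain ⟨k, hk⟩ := Subgroup.mem_zpowers_iff.1 g.2
        rw [← hk, (Commute.refl x).zpow_left k |>.eq, mul_inv_cancel_right]
    rw [hfix, Nat.card_coe_set_eq, Nat.card_coe_set_eq, Set.ncard_singleton] at hm
    simp only [Nat.ModEq] at hm
    omega
  refine ⟨_, Nat.eq_prime_pow_of_unique_prime_dvd (p := p) (n := S.ncard) ?_ fun {q} hq hqd => ?_⟩
  · intro h; rw [h] at hoddS; simp at hoddS
  by_contra hqp
  haveI := Fact.mk hq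
  obtain ⟨Q, hQ⟩ := CfsgLib.Invol.exists_invariant_sylow hiso q
  have hle : (Q : Subgroup H) ≤ Subgroup.centralizer {x} := by
    intro n hn
    rw [Subgroup.mem_centralizer_singleton_iff]
    have hmem : x * n * x⁻¹ * n⁻¹ ∈ (Q : Subgroup H) :=
      mul_mem ((Subgroup.mem_normalizer_iff.1 hQ n).1 hn) (inv_mem hn)
    have hval : x * n * x⁻¹ * n⁻¹ = x * (n * x * n⁻¹) := by rw [hS.inv_eq hx]; simp [mul_assoc]
    have h1 : (x * (n * x * n⁻¹)) ^ p = 1 := by
      by_cases h : Commute x (n * x * n⁻¹)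
      · rw [← hpair _ hx _ (hS.conj n x hx) h, hS.sq hx, one_pow]
      · exact hS.pow_p hx (hS.conj n x hx) h
    obtain ⟨k, hk⟩ := Q.2 ⟨_, hmem⟩
    have hk' : (x * n * x⁻¹ * n⁻¹) ^ q ^ k = 1 := congrArg Subtype.val hk
    have h2 : x * n * x⁻¹ * n⁻¹ = 1 := by
      rw [← orderOf_eq_one_iff]
      refine Nat.eq_one_of_dvd_coprimes ?_ (orderOf_dvd_of_pow_eq_one hk')
        (orderOf_dvd_of_pow_eq_one (by rw [hval]; exact h1))
      exact Nat.Coprime.pow_left _ ((Nat.coprime_primes hq hp).2 hqp)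
    rw [mul_inv_eq_one, mul_inv_eq_iff_eq_mul] at h2
    exact h2.symm
  have h1 : Nat.card (Q : Subgroup H) ∣ Nat.card (Subgroup.centralizer ({x} : Set H)) :=
    Subgroup.card_dvd_of_le hle
  have h2 := Subgroup.card_mul_index (Subgroup.centralizer ({x} : Set H))
  rw [hidx] at h2
  have h3 : Nat.card (Q : Subgroup H) * q ∣ Nat.card H := by
    rw [← h2]; exact mul_dvd_mul h1 hqd
  rw [Q.card_eq_multiplicity, ← pow_succ] at h3
  exact Nat.pow_succ_factorization_not_dvd Nat.card_pos.ne' hq h3

end CfsgLib.PTransp
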