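import Cfsg.Agent.Lib.PTransp.Blocks

/-!
# No configuration has commuting partners: the endgame
-/

set_option autoImplicit false

namespace CfsgLib.PTransp

open Cfsg

variable {G : Type*} [Group G] [Finite G] {p : ℕ} {D : Set G}

namespace Full

variable (hF : Full p D)
include hF

/-- A `p`-subgroup centralising a member centralises its block. -/
theorem commute_block {P : Subgroup G} (hP : IsPGroup p P) {g c : G} (hg : g ∈ P) (hc : c ∈ D)
    (h : Commute g c) {a : G} (ha : a ∈ block D c) : Commute g a := by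
  classical
  have hH := hF.toHyp
  haveI := Fact.mk hH.hp
  set Z := P ⊓ Subgroup.centralizer {c} with hZ
  have hZc : ∀ k ∈ Z, Commute k c := fun k hk => Subgroup.mem_centralizer_singleton_iff.1 hk.2
  letI : MulAction Z (block D c) :=
    { smul := fun k b => ⟨(k : G) * b.1 * (k : G)⁻¹, hH.pt.conj _ _ b.2.1, by
        have := hH.pt.commute_conj (k : G) b.2.2
        rwa [(hZc _ k.2).eq, mul_inv_cancel_right] at this⟩
      one_smul := fun b => Subtype.ext (by
        show (1 : G) * b.1 * (1 : G)⁻¹ = b.1; simp)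
      mul_smul := fun k l b => Subtype.ext (by
        show ((k * l : Z) : G) * b.1 * ((k * l : Z) : G)⁻¹ = (k : G) * ((l : G) * b.1 * (l : G)⁻¹) * (k : G)⁻¹
        simp [mul_assoc]) }
  have hZp : IsPGroup p Z := hP.to_le inf_le_left
  have hm := hZp.card_modEq_card_fixedPoints (block D c)
  rw [Nat.card_coe_set_eq, hF.ncard_block hc, Nat.card_coe_set_eq] at hm
  have hdvd : p ∣ (MulAction.fixedPoints Z (block D c)).ncard :=
    Nat.modEq_zero_iff_dvd.1 (hm.symm.trans (Nat.modEq_zero_iff_dvd.2 dvd_rfl))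
  have hcf : (⟨c, hc, Commute.refl c⟩ : block D c) ∈ MulAction.fixedPoints Z (block D c) := fun k =>
    Subtype.ext (by
      show (k : G) * c * (k : G)⁻¹ = c
      rw [(hZc _ k.2).eq, mul_inv_cancel_right])
  have hpos : 0 < (MulAction.fixedPoints Z (block D c)).ncard :=
    (Set.ncard_pos).2 ⟨_, hcf⟩
  have hfull : MulAction.fixedPoints Z (block D c) = Set.univ :=
    Set.eq_of_subset_of_ncard_le (Set.subset_univ _) (by
      rw [Set.ncard_univ, Nat.card_coe_set_eq, hF.ncard_block hc]
      exact Nat.le_of_dvd hpos hdvd)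
  have hfix : (⟨a, ha⟩ : block D c) ∈ MulAction.fixedPoints Z (block D c) := by rw [hfull]; trivial
  have := congrArg Subtype.val
    (hfix ⟨g, Subgroup.mem_inf.2 ⟨hg, Subgroup.mem_centralizer_singleton_iff.2 h.eq⟩⟩)
  exact mul_inv_eq_iff_eq_mul.1 this

/-- In a `p`-subgroup only the identity centralises members of two blocks. -/
theorem eq_one_of_two {P : Subgroup G} (hP : IsPGroup p P) {g c d : G} (hg : g ∈ P) (hc : c ∈ D)
    (hd : d ∈ D) (hcd : ¬Commute d c) (gc : Commute g c) (gd : Commute g d) : g = 1 := by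
  obtain ⟨a, ha, hne, hac⟩ := hF.partner c hc
  exact hF.eq_one_of_fix hc ha hd hne hac hcd gc (hF.commute_block hP hg hc gc ⟨ha, hac⟩) gd

/-- There is no configuration with commuting partners. -/
theorem contra {x0 : G} (hx0 : x0 ∈ D) : False := by
  classical
  have hH := hF.toHyp
  haveI := Fact.mk hH.hp
  have h5 := hH.five
  haveI := Fintype.ofFinite hH.Blocks
  -- the number of blocks is divisible by `p`
  obtain ⟨d, hd, e0, he0, hde, hfree⟩ := hF.exists_free hx0
  have hΩ : p ∣ Nat.card hH.Blocks := by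
    have hp0 : IsPGroup p (Subgroup.zpowers (d * e0)) :=
      IsPGroup.of_card (n := 1) (by rw [Nat.card_zpowers, hH.orderOf_prod hd he0 hde, pow_one])
    have hm := hp0.card_modEq_card_fixedPoints hH.Blocks
    have : IsEmpty (MulAction.fixedPoints (Subgroup.zpowers (d * e0)) hH.Blocks) :=
      ⟨fun q => hfree q.1 (q.2 ⟨_, Subgroup.mem_zpowers _⟩)⟩
    rw [Nat.card_of_isEmpty (α := MulAction.fixedPoints (Subgroup.zpowers (d * e0)) hH.Blocks)] at hm
    exact Nat.modEq_zero_iff_dvd.1 hm
  -- a maximal `p`-subgroup fixing a block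
  set B := hH.mkB hx0 with hB
  obtain ⟨P₁⟩ : Nonempty (Sylow p (MulAction.stabilizer G B)) := inferInstance
  set P := (P₁ : Subgroup (MulAction.stabilizer G B)).map (Subgroup.subtype _) with hPdef
  have hP : IsPGroup p P := P₁.2.map _
  have hPB : P ≤ MulAction.stabilizer G B := Subgroup.map_subtype_le _
  have hmax : ∀ Q : Subgroup G, IsPGroup p Q → P ≤ Q → Q ≤ MulAction.stabilizer G B → Q ≤ P := by
    intro Q hQ hle hQB g hg
    have h1 := P₁.is_maximal' (hQ.comap_of_injective (MulAction.stabilizer G B).subtype Subtype.val_injective)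
      (fun k hk => hle (Subgroup.mem_map_of_mem _ hk))
    exact ⟨⟨g, hQB hg⟩, (h1 ▸ (show (⟨g, hQB hg⟩ : MulAction.stabilizer G B) ∈
      Q.comap (MulAction.stabilizer G B).subtype from hg)), rfl⟩
  -- its fixed blocks
  set F : Finset hH.Blocks := Finset.univ.filter fun q => ∀ g ∈ P, g • q = q with hFdef
  have hmemF : ∀ {q : hH.Blocks}, q ∈ F ↔ ∀ g ∈ P, g • q = q := fun {q} => by simp [hFdef]
  have hBF : B ∈ F := hmemF.2 fun g hg => hPB hg
  have hFdvd : p ∣ F.card := by
    have hm := hP.card_modEq_card_fixedPoints hH.Blocks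
    have e : MulAction.fixedPoints P hH.Blocks = (F : Set hH.Blocks) := by
      ext q
      exact ⟨fun h => hmemF.2 fun g hg => h ⟨g, hg⟩, fun h g => (hmemF.1 h) g.1 g.2⟩
    rw [e, Nat.card_coe_set_eq, Set.ncard_coe_finset] at hm
    exact Nat.modEq_zero_iff_dvd.1 (hm.symm.trans (Nat.modEq_zero_iff_dvd.2 hΩ))
  -- products of elements interchanging two fixed blocks lie in `P`
  have hprod : ∀ {c : G} (hc : c ∈ D), hH.mkB hc ∈ F → ¬Commute x0 c →
      ∀ e ∈ swapSet D x0 c, ∀ f ∈ swapSet D x0 c, e * f ∈ P := by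
    intro c hc hcF hn e he f hf
    by_cases hef : e = f
    · rw [hef, hH.pt.sq hf.1]; exact P.one_mem
    have hncomm : ¬Commute e f := fun h => hef (hF.swap_pairwise hx0 hc hn he hf h)
    have hgen := hF.swap_eq hx0 hc hn he hf hef
    set R := Subgroup.zpowers (e * f) with hR
    have hnorm : P ≤ Subgroup.normalizer (R : Set G) := by
      intro g hg
      refine CfsgLib.Solvable.mem_normalizer_of_conj_mem fun k hk => ?_
      have hmv : ∀ t ∈ swapSet D x0 c, g * t * g⁻¹ ∈ swapSet D x0 c := fun t ht => by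
        refine (hH.smul_invol_iff (hH.pt.conj g t ht.1) hx0 hc).1 ?_
        rw [mul_smul, mul_smul]
        have h1 : g⁻¹ • B = B := by
          conv_lhs => rw [← hmemF.1 hBF g hg]
          rw [inv_smul_smul]
        rw [← hB, h1, (hH.smul_invol_iff ht.1 hx0 hc).2 ht, hmemF.1 hcF g hg]
      obtain ⟨i, hi⟩ := hgen _ (hmv e he)
      obtain ⟨j, hj⟩ := hgen _ (hmv f hf)
      have hr : g * (e * f) * g⁻¹ ∈ R := by
        have q : g * (e * f) * g⁻¹ = (g * e * g⁻¹) * (g * f * g⁻¹) := by group
        have q1 : e * (e * f) ^ i * e = ((e * f) ^ i)⁻¹ := by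
          have := hH.pt.conj_zpow he.1 hf.1 (i : ℤ)
          rwa [zpow_natCast, zpow_neg, zpow_natCast] at this
        rw [q, hi, hj, ← mul_assoc, q1]
        exact R.mul_mem (R.inv_mem (R.pow_mem (Subgroup.mem_zpowers _) _)) (R.pow_mem (Subgroup.mem_zpowers _) _)
      obtain ⟨n, rfl⟩ := Subgroup.mem_zpowers_iff.1 hk
      rw [← conj_zpow]
      exact R.zpow_mem hr n
    have hRp : IsPGroup p R :=
      IsPGroup.of_card (n := 1) (by rw [hR, Nat.card_zpowers, hH.orderOf_prod he.1 hf.1 hncomm, pow_one])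
    have hRB : R ≤ MulAction.stabilizer G B := by
      rw [hR, Subgroup.zpowers_le, MulAction.mem_stabilizer_iff, mul_smul, hB,
        (hH.smul_invol_iff hf.1 hx0 hc).2 hf, ← (hH.smul_invol_iff he.1 hx0 hc).2 he, ← mul_smul,
        hH.pt.sq he.1, one_smul]
    exact hmax _ (hP.to_sup_of_normal_right' hRp hnorm) le_sup_left (sup_le hPB hRB)
      (Subgroup.mem_sup_right (Subgroup.mem_zpowers _))
  -- two such
  obtain ⟨q, hqF, hqB⟩ : ∃ q ∈ F, q ≠ B := by
    refine Finset.exists_mem_ne ?_ B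
    have := Nat.le_of_dvd (Finset.card_pos.2 ⟨B, hBF⟩) hFdvd
    omega
  obtain ⟨c, hc, rfl⟩ := hH.exists_mkB q
  have hxc : ¬Commute x0 c := fun h => hqB (hH.mkB_eq.2 h.symm)
  have hScard : (swapSet D x0 c).ncard = p := by rw [hF.ncard_swap hx0 hc hxc, hF.ncard_block hc]
  obtain ⟨e, he, f, hf, hef⟩ := (Set.one_lt_ncard (hs := Set.toFinite _)).1 (by rw [hScard]; omega)
  have hncomm : ¬Commute e f := fun h => hef (hF.swap_pairwise hx0 hc hxc he hf h)
  set r := e * f with hr
  have hrP : r ∈ P := hprod hc hqF hxc e he f hf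
  have hrord : orderOf r = p := hH.orderOf_prod he.1 hf.1 hncomm
  have hex : ¬Commute e x0 := hF.swap_not_commute hxc he
  have hmv : ∀ g ∈ P, g * e * g⁻¹ ∈ swapSet D x0 c := fun g hg => by
    refine (hH.smul_invol_iff (hH.pt.conj g e he.1) hx0 hc).1 ?_
    rw [mul_smul, mul_smul]
    have h1 : g⁻¹ • B = B := by
      conv_lhs => rw [← hmemF.1 hBF g hg]
      rw [inv_smul_smul]
    rw [← hB, h1, (hH.smul_invol_iff he.1 hx0 hc).2 he, hmemF.1 hqF g hg]
  -- the order of `P`
  have hPle : Nat.card P ≤ p * p := by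
    have hmvx : ∀ g ∈ P, g * x0 * g⁻¹ ∈ block D x0 := fun g hg =>
      ⟨hH.pt.conj g x0 hx0, (hH.fixes_iff g hx0).1 (hmemF.1 hBF g hg)⟩
    let φ : P → block D x0 × swapSet D x0 c := fun g =>
      (⟨(g : G) * x0 * (g : G)⁻¹, hmvx _ g.2⟩, ⟨(g : G) * e * (g : G)⁻¹, hmv _ g.2⟩)
    have hφ : Function.Injective φ := by
      intro g k hgk
      have h1 := congrArg (fun u => (u.1 : G)) hgk
      have h2 := congrArg (fun u => (u.2 : G)) hgk
      have key : ∀ t : G, (g : G) * t * (g : G)⁻¹ = (k : G) * t * (k : G)⁻¹ → Commute ((k : G)⁻¹ * g) t := by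
        intro t h
        show (k : G)⁻¹ * g * t = t * ((k : G)⁻¹ * g)
        calc (k : G)⁻¹ * g * t = (k : G)⁻¹ * ((g : G) * t * (g : G)⁻¹) * g := by simp [mul_assoc]
          _ = _ := by rw [h]; simp [mul_assoc]
      have := hF.eq_one_of_two hP (P.mul_mem (P.inv_mem k.2) g.2) hx0 he.1 hex (key _ h1) (key _ h2)
      exact Subtype.ext (inv_mul_eq_one.1 this).symm
    have := Nat.card_le_card_of_injective φ hφ
    rwa [Nat.card_prod, Nat.card_coe_set_eq, Nat.card_coe_set_eq, hF.ncard_block hx0, hScard] at this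
  obtain ⟨n, hn⟩ := IsPGroup.iff_card.1 hP
  have hn1 : 1 ≤ n := by
    by_contra h0
    have : n = 0 := by omega
    rw [this, pow_zero, Subgroup.card_eq_one] at hn
    rw [hn, Subgroup.mem_bot] at hrP
    rw [hrP, orderOf_one] at hrord
    omega
  have hn2 : n ≤ 2 := by
    rw [hn, ← pow_two] at hPle
    exact (Nat.pow_le_pow_iff_right hH.hp.one_lt).1 hPle
  interval_cases n
  · -- `P` has order `p`
    have hPr : P = Subgroup.zpowers r := (Subgroup.eq_of_le_of_card_ge (Subgroup.zpowers_le.2 hrP)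
      (by rw [Nat.card_zpowers, hrord, hn, pow_one])).symm
    set J : Finset G := (Set.toFinite {j : G | j ∈ D ∧ j * r * j = r⁻¹}).toFinset with hJ
    have hmemJ : ∀ {j : G}, j ∈ J ↔ j ∈ D ∧ j * r * j = r⁻¹ := fun {j} => by simp [hJ]
    have hswap : ∀ {c' : G} (hc' : c' ∈ D), hH.mkB hc' ∈ F → ¬Commute x0 c' →
        ∀ j ∈ swapSet D x0 c', j ∈ J := by
      intro c' hc' hF' hn' j hj
      have hcard : 1 < (swapSet D x0 c').ncard := by rw [hF.ncard_swap hx0 hc' hn', hF.ncard_block hc']; omega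
      obtain ⟨j', hj', hne⟩ := Set.exists_ne_of_one_lt_ncard hcard j
      have hn2' : ¬Commute j j' := fun h => hne (hF.swap_pairwise hx0 hc' hn' hj hj' h).symm
      have hmem := hprod hc' hF' hn' j hj j' hj'
      have heq : Subgroup.zpowers (j * j') = P := Subgroup.eq_of_le_of_card_ge (Subgroup.zpowers_le.2 hmem)
        (by rw [Nat.card_zpowers, hH.orderOf_prod hj.1 hj'.1 hn2', hn, pow_one])
      obtain ⟨k, hk⟩ := Subgroup.mem_zpowers_iff.1 (heq ▸ hrP : r ∈ Subgroup.zpowers (j * j'))
      refine hmemJ.2 ⟨hj.1, ?_⟩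
      rw [← hk, hH.pt.conj_zpow hj.1 hj'.1 k, zpow_neg]
    have hmove : ∀ j ∈ J, j • B ∈ F ∧ j • B ≠ B := by
      intro j hj
      obtain ⟨hjD, hjr⟩ := hmemJ.1 hj
      refine ⟨hmemF.2 fun g hg => ?_, fun hfix => ?_⟩
      · rw [hPr] at hg
        have hcj : r * j = j * r⁻¹ := by rw [← hjr, ← mul_assoc j, ← mul_assoc j j, hH.pt.sq hjD, one_mul]
        have h1 : r • (j • B) = j • B := by
          rw [← mul_smul, hcj, mul_smul]
          congr 1
          exact hmemF.1 hBF r⁻¹ (P.inv_mem hrP)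
        exact (Subgroup.zpowers_le.2 (show r ∈ MulAction.stabilizer G (j • B) from h1)) hg
      · have hjx : Commute j x0 := hH.fixes_invol hjD hx0 hfix
        have hjb : j ∈ block D x0 := ⟨hjD, hjx⟩
        set y := r * x0 * r⁻¹ with hy
        have hyb : y ∈ block D x0 := ⟨hH.pt.conj r x0 hx0, (hH.fixes_iff r hx0).1 (hmemF.1 hBF r hrP)⟩
        have hjy : Commute j y := hH.commute_trans hx0 hyb.1 hjD hjx hyb.2.symm
        have h2 : Commute (r * r) x0 := by
          have q1 : r⁻¹ * x0 * r = y := by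
            calc r⁻¹ * x0 * r = (j * r * j) * x0 * (j * r * j)⁻¹ := by rw [hjr, inv_inv]
              _ = j * r * (j * x0 * j) * r⁻¹ * j := by
                rw [mul_inv_rev, mul_inv_rev, hH.pt.inv_eq hjD]; simp [mul_assoc]
              _ = j * y * j := by
                rw [hjx.eq, mul_assoc x0, hH.pt.sq hjD, mul_one]; simp [hy, mul_assoc]
              _ = y := by rw [hjy.eq, mul_assoc, hH.pt.sq hjD, mul_one]
          show r * r * x0 = x0 * (r * r)
          calc r * r * x0 = r * y * r := by rw [hy]; simp [mul_assoc]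
            _ = r * (r⁻¹ * x0 * r) * r := by rw [q1]
            _ = x0 * (r * r) := by simp [mul_assoc]
        have h3 : Commute r x0 := by
          have q : (r ^ 2) ^ ((p + 1) / 2) = r := pow_half hH.odd (by rw [← hrord]; exact pow_orderOf_eq_one r)
          rw [← q]
          exact Commute.pow_left (by rwa [pow_two]) _
        have h4 : Commute r j := hF.commute_block hP hrP hx0 h3 hjb
        have h5' : r * r = 1 := by
          have q : r⁻¹ = r := by rw [← hjr, ← h4.eq, mul_assoc, hH.pt.sq hjD, mul_one]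
          nth_rw 2 [← q]
          exact mul_inv_cancel r
        have : orderOf r ∣ 2 := orderOf_dvd_of_pow_eq_one (by rw [pow_two]; exact h5')
        have := Nat.le_of_dvd two_pos this
        omega
    have hcount : J.card = p * (F.card - 1) := by
      rw [Finset.card_eq_sum_card_fiberwise (f := fun j : G => j • B) (t := F.erase B)
        (fun j hj => Finset.mem_erase.2 ⟨(hmove j hj).2, (hmove j hj).1⟩)]
      rw [Finset.sum_const_nat (m := p), Finset.card_erase_of_mem hBF, mul_comm]
      intro q hq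
      obtain ⟨hne, hqF'⟩ := Finset.mem_erase.1 hq
      obtain ⟨c', hc', rfl⟩ := hH.exists_mkB q
      have hn' : ¬Commute x0 c' := fun h => hne (hH.mkB_eq.2 h.symm)
      refine Eq.trans ?_ ((hF.ncard_swap hx0 hc' hn').trans (hF.ncard_block hc'))
      rw [← Set.ncard_coe_finset]
      congr 1
      ext j
      simp only [Finset.coe_filter, Set.mem_setOf_eq]
      exact ⟨fun h => (hH.smul_invol_iff (hmemJ.1 h.1).1 hx0 hc').1 h.2,
        fun h => ⟨hswap hc' hqF' hn' j h, (hH.smul_invol_iff h.1 hx0 hc').2 h⟩⟩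
    obtain ⟨k, hk⟩ : ∃ k, (J : Set G).ncard = p ^ k := by
      refine hH.ncard_pow_of_closed (fun j hj => (hmemJ.1 hj).1) ⟨e, hswap hc hqF hxc e he⟩ ?_ ?_
      · intro a ha b hb
        obtain ⟨haD, har⟩ := hmemJ.1 ha
        obtain ⟨hbD, hbr⟩ := hmemJ.1 hb
        refine hmemJ.2 ⟨hH.pt.cj_mem haD hbD, ?_⟩
        have har' : a * r⁻¹ * a = r := by rw [← har]; simp [mul_assoc, hH.pt.cancel haD, hH.pt.sq haD]
        calc a * b * a * r * (a * b * a) = a * (b * (a * r * a) * b) * a := by simp [mul_assoc]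
          _ = a * (b * r * b)⁻¹ * a := by rw [har, mul_inv_rev (b * r) b, mul_inv_rev b r, hH.pt.inv_eq hbD, mul_assoc b]
          _ = r⁻¹ := by rw [hbr, inv_inv, har]
      · intro a ha b hb hab
        by_contra hne
        obtain ⟨haD, har⟩ := hmemJ.1 ha
        obtain ⟨hbD, hbr⟩ := hmemJ.1 hb
        have hm := hH.prod_mem haD hbD hne hab
        have hc1 : Commute (a * b) r := by
          show a * b * r = r * (a * b)
          have q1 : b * r = r⁻¹ * b := by rw [← hbr, mul_assoc, hH.pt.sq hbD, mul_one]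
          have q2 : a * r⁻¹ = r * a := by
            rw [← har]; simp [mul_assoc, hH.pt.cancel haD]
          rw [mul_assoc, q1, ← mul_assoc, q2, mul_assoc]
        obtain ⟨c1, c2⟩ := hH.pt.commute_of_commute_mul hH.odd he.1 hf.1 hm hncomm hc1
        exact hncomm (hH.commute_trans hm hf.1 he.1 c1.symm c2)
    rw [Set.ncard_coe_finset, hcount] at hk
    have hF1 : F.card - 1 = 1 := by
      obtain ⟨k', rfl⟩ : ∃ k', k = k' + 1 := ⟨k - 1, (Nat.succ_pred_eq_of_ne_zero (by
        intro h
        rw [h, pow_zero] at hk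
        have := Nat.eq_one_of_mul_eq_one_right hk
        omega)).symm⟩
      rw [pow_succ', Nat.mul_left_cancel_iff hH.hp.pos] at hk
      by_contra hne
      have hk' : k' ≠ 0 := fun h => hne (by rw [hk, h, pow_zero])
      have h1 : p ∣ F.card - 1 := hk ▸ dvd_pow_self p hk'
      have h2 := Nat.dvd_sub hFdvd h1
      have h3 : F.card - (F.card - 1) = 1 := by
        have := Finset.card_pos.2 ⟨B, hBF⟩
        omega
      rw [h3, Nat.dvd_one] at h2
      omega
    have := Nat.le_of_dvd (Finset.card_pos.2 ⟨B, hBF⟩) hFdvd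
    omega
  · -- `P` has order `p ^ 2`
    have heP : ∀ g ∈ P, e * g * e ∈ P := by
      intro g hg
      have h1 : g⁻¹ * e * g⁻¹⁻¹ ∈ swapSet D x0 c := hmv g⁻¹ (P.inv_mem hg)
      have h2 := hprod hc hqF hxc _ h1 e he
      have q : e * g * e = g * (g⁻¹ * e * g⁻¹⁻¹ * e) := by simp [mul_assoc]
      rw [q]
      exact P.mul_mem hg h2
    have heF : ∀ q ∈ F, e • q ∈ F := by
      intro q hq
      refine hmemF.2 fun g hg => ?_
      have q1 : g * e = e * (e * g * e) := by simp [mul_assoc, hH.pt.cancel he.1]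
      rw [← mul_smul, q1, mul_smul, hmemF.1 hq _ (heP g hg)]
    have henofix : ∀ q ∈ F, e • q ≠ q := by
      intro q hq hfix
      obtain ⟨b, hb, rfl⟩ := hH.exists_mkB q
      have hfix2 : f • hH.mkB hb = hH.mkB hb := by
        have q1 : f = e * r := by rw [hr, hH.pt.cancel he.1]
        rw [q1, mul_smul, hmemF.1 hq r hrP, hfix]
      exact hncomm (hH.commute_trans hb hf.1 he.1 (hH.fixes_invol he.1 hb hfix) (hH.fixes_invol hf.1 hb hfix2).symm)
    have heven : 2 ∣ F.card := by
      have h0 : (∑ _q ∈ F, (1 : ZMod 2)) = 0 := Finset.sum_involution (fun q _ => e • q)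
        (fun _ _ => rfl) (fun q hq _ => henofix q hq) (fun q hq => heF q hq)
        (fun q _ => by rw [← mul_smul, hH.pt.sq he.1, one_smul])
      rw [Finset.sum_const, nsmul_one] at h0
      exact (ZMod.natCast_eq_zero_iff _ _).1 h0
    have hA : ∀ q : hH.Blocks, ∃ b, ∃ hb : b ∈ D, hH.mkB hb = q := hH.exists_mkB
    choose rep hrepD hrep using hA
    set A : hH.Blocks → Finset G := fun q => (Set.toFinite
      (((P ⊓ Subgroup.centralizer {rep q} : Subgroup G) : Set G) \ {1})).toFinset with hAdef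
    have hAcard : ∀ q ∈ F, p - 1 ≤ (A q).card := by
      intro q hq
      set Z := P ⊓ Subgroup.centralizer {rep q} with hZ
      have hdvd : Nat.card Z ∣ p ^ 2 := hn ▸ Subgroup.card_dvd_of_le inf_le_left
      have hne1 : Nat.card Z ≠ 1 := by
        intro h1
        rw [Subgroup.card_eq_one] at h1
        have hmvq : ∀ g ∈ P, g * rep q * g⁻¹ ∈ block D (rep q) := fun g hg =>
          ⟨hH.pt.conj g _ (hrepD q), (hH.fixes_iff g (hrepD q)).1 (by rw [hrep]; exact hmemF.1 hq g hg)⟩
        have hinj : Function.Injective (fun g : P => (⟨(g : G) * rep q * (g : G)⁻¹, hmvq _ g.2⟩ : block D (rep q))) := by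
          intro g k hgk
          have h : (g : G) * rep q * (g : G)⁻¹ = (k : G) * rep q * (k : G)⁻¹ := congrArg Subtype.val hgk
          have hc2 : (k : G)⁻¹ * g ∈ Z := by
            refine Subgroup.mem_inf.2 ⟨P.mul_mem (P.inv_mem k.2) g.2, Subgroup.mem_centralizer_singleton_iff.2 ?_⟩
            calc (k : G)⁻¹ * g * rep q = (k : G)⁻¹ * ((g : G) * rep q * (g : G)⁻¹) * g := by simp [mul_assoc]
              _ = _ := by rw [h]; simp [mul_assoc]
          rw [h1, Subgroup.mem_bot] at hc2
          exact Subtype.ext (inv_mul_eq_one.1 hc2).symm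
        have := Nat.card_le_card_of_injective _ hinj
        rw [Nat.card_coe_set_eq, hF.ncard_block (hrepD q), hn, pow_two] at this
        exact absurd (this.trans_lt (lt_mul_of_one_lt_left hH.hp.pos hH.hp.one_lt)) (lt_irrefl _)
      have hpz : p ≤ Nat.card Z := by
        obtain ⟨i, -, hi⟩ := (Nat.dvd_prime_pow hH.hp).1 hdvd
        rw [hi]
        exact Nat.le_self_pow (by rintro rfl; exact hne1 (by rw [hi, pow_zero])) p
      rw [hAdef, ← Set.ncard_eq_toFinset_card, Set.ncard_diff_singleton_of_mem (one_mem Z)]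
      have : (Z : Set G).ncard = Nat.card Z := (Nat.card_coe_set_eq _).symm
      omega
    have hdisj : (F : Set hH.Blocks).PairwiseDisjoint A := by
      intro a ha b hb hab
      refine Finset.disjoint_left.2 fun g hga hgb => ?_
      rw [hAdef, Set.Finite.mem_toFinset] at hga hgb
      obtain ⟨⟨hgP, hga'⟩, hg1⟩ := hga
      obtain ⟨⟨-, hgb'⟩, -⟩ := hgb
      refine hg1 (hF.eq_one_of_two hP hgP (hrepD a) (hrepD b) (fun h => hab ?_)
        (Subgroup.mem_centralizer_singleton_iff.1 hga') (Subgroup.mem_centralizer_singleton_iff.1 hgb'))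
      rw [← hrep a, ← hrep b]
      exact hH.mkB_eq.2 h.symm
    have hle : F.card * (p - 1) ≤ p ^ 2 - 1 := by
      calc F.card * (p - 1) = ∑ _q ∈ F, (p - 1) := by rw [Finset.sum_const, smul_eq_mul]
        _ ≤ ∑ q ∈ F, (A q).card := Finset.sum_le_sum hAcard
        _ = (F.biUnion A).card := (Finset.card_biUnion hdisj).symm
        _ ≤ ((Set.toFinite ((P : Set G) \ {1})).toFinset).card := Finset.card_le_card (by
            intro g hg
            obtain ⟨q, -, hg⟩ := Finset.mem_biUnion.1 hg
            rw [hAdef, Set.Finite.mem_toFinset] at hg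
            rw [Set.Finite.mem_toFinset]
            exact ⟨hg.1.1, hg.2⟩)
        _ = p ^ 2 - 1 := by
            rw [← Set.ncard_eq_toFinset_card, Set.ncard_diff_singleton_of_mem P.one_mem, ← Nat.card_coe_set_eq]
            exact congrArg (· - 1) hn
    obtain ⟨t, ht⟩ := (Nat.Coprime.mul_dvd_of_dvd_of_dvd (Nat.coprime_two_left.2 hH.odd) heven hFdvd)
    have ht1 : 1 ≤ t := by
      by_contra h0
      have : t = 0 := by omega
      rw [this, mul_zero] at ht
      exact (Finset.card_pos.2 ⟨B, hBF⟩).ne' ht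
    have h2p : 2 * p ≤ F.card := by rw [ht]; exact Nat.le_mul_of_pos_right _ ht1
    have hsq : p ^ 2 - 1 = (p + 1) * (p - 1) := by
      have := Nat.sq_sub_sq p 1
      rwa [one_pow] at this
    rw [hsq] at hle
    have := Nat.le_of_mul_le_mul_right hle (by omega)
    omega

end Full

end CfsgLib.PTransp
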