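import Cfsg.Agent.Lib.PTransp.Solv
import Cfsg.Agent.Lib.Cores.Fitting

/-!
# In a minimal configuration commuting is an equivalence relation
-/

set_option autoImplicit false

namespace CfsgLib.PTransp

open Cfsg

variable {G : Type*} [Group G] [Finite G] {p : ℕ} {D : Set G}

/-- A minimal configuration. -/
structure Hyp (p : ℕ) (D : Set G) : Prop where
  pt : IsPT p D
  hp : p.Prime
  five : 5 ≤ p
  gen : Subgroup.closure D = ⊤
  nsolv : ∀ N : Subgroup G, N.Normal → Group.IsSolvable N → N = ⊥
  proper : ∀ S : Set G, S ⊆ D → Subgroup.closure S ≠ ⊤ → Group.IsSolvable (Subgroup.closure S)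

namespace Hyp

variable (hH : Hyp p D)
include hH

theorem odd : Odd p := hH.hp.odd_of_ne_two (by have := hH.five; omega)

theorem center_eq : Subgroup.center G = ⊥ :=
  hH.nsolv _ inferInstance (Group.isSolvable_of_comm fun a b =>
    Subtype.ext (Subgroup.mem_center_iff.1 b.2 a))

theorem eq_one_of_central {c : G} (h : ∀ d ∈ D, Commute d c) : c = 1 := by
  have : c ∈ Subgroup.center G := by
    rw [Subgroup.mem_center_iff]
    intro g
    have hle : Subgroup.closure D ≤ Subgroup.centralizer {c} :=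
      (Subgroup.closure_le _).2 fun d hd => Subgroup.mem_centralizer_singleton_iff.2 (h d hd).eq
    rw [hH.gen] at hle
    exact Subgroup.mem_centralizer_singleton_iff.1 (hle (Subgroup.mem_top g))
  rwa [hH.center_eq, Subgroup.mem_bot] at this

theorem exists_not_commute {d : G} (hd : d ∈ D) : ∃ e ∈ D, ¬Commute e d := by
  by_contra h
  push Not at h
  exact hH.pt.ne_one hd (hH.eq_one_of_central h)

theorem not_commute_self_cj {x d : G} (hx : x ∈ D) (hd : d ∈ D) (h : ¬Commute d x) :
    ¬Commute x (d * x * d) := hH.pt.not_commute_cj hH.odd hd hx h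

/-- Adjacency in the non-commuting graph. -/
def Edge (_ : Hyp p D) (a b : G) : Prop := a ∈ D ∧ b ∈ D ∧ ¬Commute a b

theorem connected {x e : G} (hx : x ∈ D) (he : e ∈ D) : Relation.ReflTransGen hH.Edge x e := by
  by_contra hne
  set T := {f : G | f ∈ D ∧ Relation.ReflTransGen hH.Edge x f} with hT
  have hcross : ∀ f ∈ T, ∀ g ∈ D, g ∉ T → Commute f g := fun f hf g hg hgT => by
    by_contra h
    exact hgT ⟨hg, hf.2.tail ⟨hf.1, hg, h⟩⟩
  have hinv : ∀ g ∈ D, ∀ f ∈ T, g * f * g⁻¹ ∈ T := fun g hg f hf => by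
    rw [hH.pt.inv_eq hg]
    by_cases h : Commute g f
    · rw [h.eq, mul_assoc, hH.pt.sq hg, mul_one]; exact hf
    · exact ⟨hH.pt.cj_mem hg hf.1,
        hf.2.tail ⟨hf.1, hH.pt.cj_mem hg hf.1, hH.pt.not_commute_cj hH.odd hg hf.1 h⟩⟩
  set K := Subgroup.closure T with hK
  have hKn : K.Normal := by
    refine Subgroup.normalizer_eq_top_iff.1 (top_le_iff.1 ?_)
    rw [← hH.gen, Subgroup.closure_le]
    intro g hg
    refine CfsgLib.Solvable.mem_normalizer_of_conj_mem fun k hk => ?_
    have hle : K ≤ K.comap (MulAut.conj g).toMonoidHom :=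
      (Subgroup.closure_le _).2 fun f hf => Subgroup.subset_closure (hinv g hg f hf)
    exact hle hk
  have hxT : x ∈ T := ⟨hx, Relation.ReflTransGen.refl⟩
  have hne' : e ∉ T := fun h => hne h.2
  by_cases htop : K = ⊤
  · refine hH.pt.ne_one he (hH.eq_one_of_central fun d hd => ?_)
    have hle : K ≤ Subgroup.centralizer {e} := (Subgroup.closure_le _).2 fun f hf =>
      Subgroup.mem_centralizer_singleton_iff.2 (hcross f hf e he hne').eq
    exact Subgroup.mem_centralizer_singleton_iff.1 (hle (htop ▸ Subgroup.mem_top d))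
  · have := hH.nsolv K hKn (hH.proper T (fun f hf => hf.1) htop)
    have hxK : x ∈ K := Subgroup.subset_closure hxT
    rw [this, Subgroup.mem_bot] at hxK
    exact hH.pt.ne_one hx hxK

theorem exists_conj {x e : G} (hx : x ∈ D) (he : e ∈ D) : ∃ g : G, g * x * g⁻¹ = e := by
  have h := hH.connected hx he
  induction h with
  | refl => exact ⟨1, by simp⟩
  | tail _ hbc ih =>
    obtain ⟨g, hg⟩ := ih hbc.1
    obtain ⟨m, hm, e'⟩ := hH.pt.exists_mid hH.odd hbc.1 hbc.2.1 hbc.2.2
    refine ⟨m * g, ?_⟩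
    rw [← e', ← hg, mul_inv_rev, hH.pt.inv_eq hm]
    group

/-- Three elements with central product among a set generating a proper subgroup are impossible. -/
theorem closure_eq_top {x a y d : G} (hx : x ∈ D) (ha : a ∈ D) (hy : y ∈ D) (hd : d ∈ D)
    (hxa : Commute x a) (hyK : y ∈ Subgroup.closure ({x, a, d} : Set G))
    (hcx : Commute (x * a * y) x) (hca : Commute (x * a * y) a) (hcd : Commute (x * a * y) d)
    (hdx : ¬Commute d x) (hda : ¬Commute d a) (hdy : ¬Commute d y) :
    Subgroup.closure ({x, a, d} : Set G) = ⊤ := by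
  by_contra hne
  set K := Subgroup.closure ({x, a, d} : Set G) with hK
  haveI : Group.IsSolvable K := hH.proper _ (by
    simp only [Set.insert_subset_iff, Set.singleton_subset_iff]; exact ⟨hx, ha, hd⟩) hne
  have mx : x ∈ K := Subgroup.subset_closure (by simp)
  have ma : a ∈ K := Subgroup.subset_closure (by simp)
  have md : d ∈ K := Subgroup.subset_closure (by simp)
  have hcen : K ≤ Subgroup.centralizer {x * a * y} := (Subgroup.closure_le _).2 fun g hg => by
    simp only [Set.mem_insert_iff, Set.mem_singleton_iff] at hg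
    refine Subgroup.mem_centralizer_singleton_iff.2 ?_
    rcases hg with rfl | rfl | rfl
    exacts [hcx.eq.symm, hca.eq.symm, hcd.eq.symm]
  exact no_central_triple hH.odd (hH.pt.subgroup K) (x := (⟨x, mx⟩ : K)) (a := ⟨a, ma⟩) (y := ⟨y, hyK⟩)
    hx ha hy (Subtype.ext hxa.eq)
    (Subgroup.mem_center_iff.2 fun g => Subtype.ext
      (Subgroup.mem_centralizer_singleton_iff.1 (hcen g.2)))
    ⟨⟨d, md⟩, hd, fun h => hdx (congrArg Subtype.val h.eq)⟩
    ⟨⟨d, md⟩, hd, fun h => hda (congrArg Subtype.val h.eq)⟩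
    ⟨⟨d, md⟩, hd, fun h => hdy (congrArg Subtype.val h.eq)⟩

/-- The product of a commuting pair moves each vector to a commuting one. -/
theorem commute_conj_prod {x a d : G} (hx : x ∈ D) (ha : a ∈ D) (hd : d ∈ D) (hne : x ≠ a)
    (hxa : Commute x a) (hdx : ¬Commute d x) (hda : ¬Commute d a) (hnD : x * a ∉ D) :
    Commute (x * a * d * (x * a)⁻¹) d := by
  by_contra hn
  have hp := hH.odd
  set z := x * a with hz
  have hzz : z * z = 1 := by
    rw [hz, ← pow_two, hxa.mul_pow, pow_two, pow_two, hH.pt.sq hx, hH.pt.sq ha, one_mul]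
  have hzi : z⁻¹ = z := inv_eq_of_mul_eq_one_right hzz
  have hd' : z * d * z⁻¹ ∈ D := hH.pt.conj z d hd
  set u := z * d with hu
  have hu2 : u ^ 2 = z * d * z⁻¹ * d := by rw [hzi, hu, pow_two]; simp [mul_assoc]
  have hu2p : (u ^ 2) ^ p = 1 := by rw [hu2]; exact hH.pt.pow_p hd' hd hn
  set c := u ^ p with hc
  have hc2 : c * c = 1 := by rw [hc, ← pow_two, ← pow_mul, mul_comm, pow_mul, hu2p]
  have hci : c⁻¹ = c := inv_eq_of_mul_eq_one_right hc2
  have hcu : Commute c u := (Commute.refl u).pow_left p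
  have hcz : Commute z c := by
    show z * c = c * z
    have h1 : z * u * z⁻¹ = u⁻¹ := by
      have q : u⁻¹ = d * z := by rw [hu, mul_inv_rev, hH.pt.inv_eq hd, hzi]
      rw [q, hu, hzi, ← mul_assoc z z, hzz, one_mul]
    have h2 : z * c * z⁻¹ = c := by rw [hc, ← conj_pow, h1, inv_pow, ← hc, hci]
    nth_rw 2 [← h2]
    rw [inv_mul_cancel_right]
  have hcd : Commute d c := by
    have := (hcz.mul_left hcu.symm)
    rwa [hu, ← mul_assoc, hzz, one_mul] at this
  set y := z * c with hy
  have hyD : y ∈ D := by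
    obtain ⟨j, hj⟩ := id hp
    have h1 : y = (u ^ j)⁻¹ * d * u ^ j := by
      have hdu : d * u * d⁻¹ = u⁻¹ := by
        rw [hu, mul_inv_rev, hH.pt.inv_eq hd, hzi]
        simp [mul_assoc, hH.pt.sq hd]
      have h2 : (u ^ j)⁻¹ * d = d * u ^ j := by
        have q : d * u ^ j * d⁻¹ = (u ^ j)⁻¹ := by rw [← conj_pow, hdu, inv_pow]
        rw [← q, inv_mul_cancel_right]
      rw [h2, hy, hc, hj, show 2 * j + 1 = 1 + (j + j) by ring, pow_add, pow_add, pow_one,
        mul_assoc d]
      nth_rw 1 [hu]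
      rw [← mul_assoc z (z * d), ← mul_assoc z z, hzz, one_mul]
    rw [h1]
    have := hH.pt.conj (u ^ j)⁻¹ d hd
    rwa [inv_inv] at this
  have hzy : Commute (x * a) y := (Commute.refl z).mul_right hcz
  obtain ⟨hyx, hya⟩ := hH.pt.commute_of_commute_prod hp hx ha hyD hne hxa hzy
  have hce : x * a * y = c := by rw [hy, ← hz, ← mul_assoc, hzz, one_mul]
  have hcx : Commute (x * a * y) x := ((Commute.refl x).mul_left hxa.symm).mul_left hyx
  have hca : Commute (x * a * y) a := (hxa.mul_left (Commute.refl a)).mul_left hya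
  have hdy : ¬Commute d y := fun h => by
    have h' : Commute (x * a) d := by
      have : z = y * c := by rw [hy, mul_assoc, hc2, mul_one]
      rw [← hz, this]
      exact h.symm.mul_left hcd.symm
    exact hdx (hH.pt.commute_of_commute_prod hp hx ha hd hne hxa h').1
  have hyK : y ∈ Subgroup.closure ({x, a, d} : Set G) := by
    have mz : z ∈ Subgroup.closure ({x, a, d} : Set G) :=
      Subgroup.mul_mem _ (Subgroup.subset_closure (by simp)) (Subgroup.subset_closure (by simp))
    rw [hy, hc, hu]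
    exact Subgroup.mul_mem _ mz (Subgroup.pow_mem _ (Subgroup.mul_mem _ mz
      (Subgroup.subset_closure (by simp))) _)
  have htop := hH.closure_eq_top hx ha hyD hd hxa hyK hcx hca (hce ▸ hcd.symm) hdx hda hdy
  have hc1 : c = 1 := by
    rw [← Subgroup.mem_bot, ← hH.center_eq, Subgroup.mem_center_iff]
    intro g
    have hle : Subgroup.closure ({x, a, d} : Set G) ≤ Subgroup.centralizer {c} :=
      (Subgroup.closure_le _).2 fun g hg => by
        simp only [Set.mem_insert_iff, Set.mem_singleton_iff] at hg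
        refine Subgroup.mem_centralizer_singleton_iff.2 ?_
        rcases hg with rfl | rfl | rfl
        exacts [(hce ▸ hcx).eq.symm, (hce ▸ hca).eq.symm, hcd.eq]
    rw [htop] at hle
    exact Subgroup.mem_centralizer_singleton_iff.1 (hle (Subgroup.mem_top g))
  rw [hc1, mul_one] at hy
  exact hnD (hy ▸ hyD)

theorem prod_not_mem {u v g : G} (hv : v ∈ D) (hu : u ∈ D) (hg : g ∈ D) (huv : Commute u v)
    (hgu : Commute g u) (hgv : ¬Commute g v) : u * v ∉ D := fun h => by
  have hc : Commute u (v * g) := huv.mul_right hgu.symm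
  have hvg : ¬Commute v g := fun h' => hgv h'.symm
  have hne : (v * g) ^ 2 ≠ 1 := fun h' => hvg ((hH.pt.commute_iff hv hg).2 h')
  have hu2 : u ^ 2 = 1 := by rw [pow_two]; exact hH.pt.sq hu
  rcases hH.pt.prod _ h g hg with e | e <;> rw [mul_assoc, hc.mul_pow] at e
  · rw [hu2, one_mul] at e; exact hne e
  · rw [hH.pt.pow_p hv hg hvg, mul_one] at e
    exact hH.pt.ne_one hu (eq_one_of_two_of_odd hH.odd hu2 e)

/-- A commuting pair with a common neighbour has the same commuting elements. -/
theorem commute_of_commute {u v w g : G} (hu : u ∈ D) (hv : v ∈ D) (hw : w ∈ D) (hg : g ∈ D)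
    (huv : Commute u v) (hwu : ¬Commute w u) (hwv : ¬Commute w v) (hgu : Commute g u) :
    Commute g v := by
  by_contra hgv
  have hp := hH.odd
  have hne : u ≠ v := fun h => hgv (h ▸ hgu)
  have hnD := hH.prod_not_mem hv hu hg huv hgu hgv
  set z := u * v with hz
  set u' := w * u * w with hu'
  set v' := w * v * w with hv'
  have mu : u' ∈ D := hH.pt.cj_mem hw hu
  have mv : v' ∈ D := hH.pt.cj_mem hw hv
  have huv' : Commute u' v' := (hH.pt.commute_cj_iff hw).2 huv
  have hne' : u' ≠ v' := fun h => hne (mul_left_cancel (mul_right_cancel h))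
  set z' := u' * v' with hz'
  have hz'w : z' = w * z * w⁻¹ := by
    rw [hz', hu', hv', hH.pt.inv_eq hw, hz]; simp [mul_assoc, hH.pt.cancel hw]
  have hz'D : z' ∉ D := fun h => hnD (by
    have := hH.pt.conj w⁻¹ _ h
    rwa [hz'w, inv_inv, show w⁻¹ * (w * z * w⁻¹) * w = z by group] at this)
  have hzz : z * z = 1 := by
    rw [hz, ← pow_two, huv.mul_pow, pow_two, pow_two, hH.pt.sq hu, hH.pt.sq hv, one_mul]
  have hzi : z⁻¹ = z := inv_eq_of_mul_eq_one_right hzz
  have hzz' : Commute z z' := by
    have h1 := hH.commute_conj_prod hu hv hw hne huv hwu hwv hnD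
    rw [← hz, hH.pt.commute_iff (hH.pt.conj z w hw) hw] at h1
    rw [hzi] at h1
    have h2 : z * w * z * w = z * z' := by
      rw [hz'w, hH.pt.inv_eq hw]; simp [mul_assoc]
    rw [h2, pow_two] at h1
    show z * z' = z' * z
    have hz'i : z'⁻¹ = z' := by
      rw [hz'w]
      calc (w * z * w⁻¹)⁻¹ = w * z⁻¹ * w⁻¹ := by group
        _ = w * z * w⁻¹ := by rw [hzi]
    have h3 := eq_inv_of_mul_eq_one_left h1
    rwa [mul_inv_rev, hz'i, hzi] at h3
  have hxv : ∀ {u v : G}, u ∈ D → v ∈ D → Commute u v → ¬Commute w u → ¬Commute w v →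
      ¬Commute v (w * u * w) := by
    intro u v hu hv huv hwu hwv h
    have h1 : Commute v ((u * w) ^ 2) := by
      rw [pow_two, show u * w * (u * w) = u * (w * u * w) by simp [mul_assoc]]
      exact huv.symm.mul_right h
    have hn : ¬Commute u w := fun h' => hwu h'.symm
    have h2 := h1.pow_right ((p + 1) / 2)
    rw [pow_half hp (hH.pt.pow_p hu hw hn)] at h2
    exact hwv (hH.pt.commute_of_commute_mul hp hu hw hv hn h2).2.symm
  have hvu' := hxv hu hv huv hwu hwv
  have huv'' := hxv hv hu huv.symm hwv hwu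
  have huu' : ¬Commute u u' := hH.not_commute_self_cj hu hw hwu
  have hvv' : ¬Commute v v' := hH.not_commute_self_cj hv hw hwv
  set b := z' * u * z'⁻¹ with hb
  set c := z' * v * z'⁻¹ with hc
  have mb : b ∈ D := hH.pt.conj _ _ hu
  have mc : c ∈ D := hH.pt.conj _ _ hv
  have hbu : Commute b u := hH.commute_conj_prod mu mv hu hne' huv' huu' huv'' hz'D
  have hcv : Commute c v := hH.commute_conj_prod mu mv hv hne' huv' hvu' hvv' hz'D
  have hbc : b * c = z := by
    rw [hb, hc, show z' * u * z'⁻¹ * (z' * v * z'⁻¹) = z' * z * z'⁻¹ by rw [hz]; group, ← hzz'.eq,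
      mul_inv_cancel_right]
  have hbcc : Commute b c := hH.pt.commute_conj z' huv
  have hbu' : b ≠ u := fun h => by
    have hcm : Commute z' u := mul_inv_eq_iff_eq_mul.1 h
    exact huu' (hH.pt.commute_of_commute_prod hp mu mv hu hne' huv' hcm).1
  have hcv' : c ≠ v := fun h => by
    have hcm : Commute z' v := mul_inv_eq_iff_eq_mul.1 h
    exact hvv' (hH.pt.commute_of_commute_prod hp mu mv hv hne' huv' hcm).2
  have hbv : b ≠ v := fun h => by
    -- here `p ≠ 3`
    have e1 : z' * u * z'⁻¹ = v := h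
    rw [hz', mul_inv_rev, hH.pt.inv_eq mu, hH.pt.inv_eq mv] at e1
    have hsw : u' * v' = v' * u' := huv'.eq
    have e2 : u' * u * u' = v' * v * v' := by
      have e3 : v' * (u' * u * u') * v' = v := by
        calc v' * (u' * u * u') * v' = (v' * u') * u * (u' * v') := by simp only [mul_assoc]
          _ = (u' * v') * u * (v' * u') := by rw [← hsw]
          _ = v := e1
      rw [← e3]
      simp [mul_assoc, hH.pt.cancel mv, hH.pt.sq mv]
    have e4 : (u * w) ^ 3 = (v * w) ^ 3 := by
      have q1 : (u * w) ^ 3 = w * (u' * u * u') := by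
        rw [pow_succ, pow_two, hu']; simp [mul_assoc, hH.pt.cancel hw]
      have q2 : (v * w) ^ 3 = w * (v' * v * v') := by
        rw [pow_succ, pow_two, hv']; simp [mul_assoc, hH.pt.cancel hw]
      rw [q1, q2, e2]
    have q : ∀ t : G, t ^ p = 1 → ∃ n, ∀ s : G, s ^ p = 1 → (s ^ 3) ^ n = s := by
      intro t _
      have hco : Nat.Coprime 3 p := (Nat.coprime_primes Nat.prime_three hH.hp).2 (by have := hH.five; omega)
      obtain ⟨n, -, hn⟩ := Nat.exists_mul_mod_eq_one_of_coprime hco hH.hp.one_lt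
      refine ⟨n, fun s hs => ?_⟩
      rw [← pow_mul, ← Nat.div_add_mod (3 * n) p, hn, pow_succ, pow_mul, hs, one_pow, one_mul]
    obtain ⟨n, hn⟩ := q 1 (one_pow _)
    have h6 := congrArg (· ^ n) e4
    rw [hn _ (hH.pt.pow_p hu hw fun h' => hwu h'.symm), hn _ (hH.pt.pow_p hv hw fun h' => hwv h'.symm)] at h6
    exact hne (mul_right_cancel h6)
  have hcu' : c ≠ u := fun h => hbv (by
    have := hbc
    rw [h, hz, huv.eq] at this
    exact mul_right_cancel this)
  have hbne : b ≠ c := fun h => hne (by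
    have q : z = 1 := by rw [← hbc, h, hH.pt.sq mc]
    rw [hz] at q
    rw [eq_inv_of_mul_eq_one_left q, hH.pt.inv_eq hv])
  have hcb : c = b * z := by rw [← hbc, hH.pt.cancel mb]
  have hbz : Commute b z := by rw [← hbc]; exact (Commute.refl b).mul_right hbcc
  have hbc' : b = z * c := by rw [← hbc, mul_assoc, hH.pt.sq mc, mul_one]
  have huz : Commute u z := (Commute.refl u).mul_right huv
  have hvz : Commute v z := huv.symm.mul_right (Commute.refl v)
  have hcu : Commute c u := by rw [hcb]; exact hbu.mul_left huz.symm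
  have hbv2 : Commute b v := by rw [hbc']; exact hvz.symm.mul_left hcv
  have e_ub : u * b = v * c := by
    rw [hbc', ← mul_assoc u z c, show u * z = v from hH.pt.cancel hu v]
  have e_uc : u * c = v * b := by
    rw [hbc', ← mul_assoc v z c, show v * z = u by rw [hz, huv.eq, hH.pt.cancel hv]]
  have hgb : ¬Commute g b := fun h => by
    have hcm : Commute (v * c) g := by rw [← e_ub]; exact (hgu.mul_right h).symm
    exact hgv (hH.pt.commute_of_commute_prod hp hv mc hg hcv'.symm hcv.symm hcm).1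
  have hgc : ¬Commute g c := fun h => by
    have hcm : Commute (v * b) g := by rw [← e_uc]; exact (hgu.mul_right h).symm
    exact hgv (hH.pt.commute_of_commute_prod hp hv mb hg hbv.symm hbv2.symm hcm).1
  have h7 := hH.commute_conj_prod mb mc hg hbne hbcc hgb hgc (hbc ▸ hnD)
  rw [hbc, hzi, hz] at h7
  have h8 : u * v * g * (u * v) = v * g * v := by
    calc u * v * g * (u * v) = v * (u * g * u) * v := by rw [huv.eq]; simp [mul_assoc, huv.eq]
      _ = v * g * v := by rw [← hgu.eq, mul_assoc g u u, hH.pt.sq hu, mul_one]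
  rw [h8] at h7
  exact hH.pt.not_commute_cj hp hv hg (fun h => hgv h.symm) h7.symm

/-- Commuting is transitive. -/
theorem commute_trans {x a g : G} (hx : x ∈ D) (ha : a ∈ D) (hg : g ∈ D) (hgx : Commute g x)
    (hxa : Commute x a) : Commute g a := by
  have key : ∀ e : G, Relation.ReflTransGen hH.Edge x e →
      e ∈ D ∧ (¬Commute x e ∨ ∀ g ∈ D, (Commute g x ↔ Commute g e)) := by
    intro e he
    induction he with
    | refl => exact ⟨hx, Or.inr fun _ _ => Iff.rfl⟩
    | @tail e e' _ hee ih =>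
      refine ⟨hee.2.1, ?_⟩
      rw [or_iff_not_imp_left, not_not]
      intro hxe'
      rcases ih.2 with hn | htw
      · exact fun g hg => ⟨fun h => hH.commute_of_commute hx hee.2.1 hee.1 hg hxe'
          (fun h' => hn h'.symm) hee.2.2 h, fun h => hH.commute_of_commute hee.2.1 hx hee.1 hg hxe'.symm
          hee.2.2 (fun h' => hn h'.symm) h⟩
      · exact absurd ((htw _ hee.2.1).1 hxe'.symm) fun h => hee.2.2 h.symm
  exact (((key a (hH.connected hx ha)).2.resolve_left (not_not.2 hxa)) g hg).1 hgx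

/-- The product of two distinct commuting members is a member. -/
theorem prod_mem {x a : G} (hx : x ∈ D) (ha : a ∈ D) (hne : x ≠ a) (hxa : Commute x a) :
    x * a ∈ D := by
  by_contra hnD
  set z := x * a with hz
  have hfix : ∀ d ∈ D, Commute (z * d * z⁻¹) d := by
    intro d hd
    by_cases h : Commute d x
    · have hda : Commute d a := hH.commute_trans hx ha hd h hxa
      have hcm : Commute z d := h.symm.mul_left hda.symm
      rw [hcm.eq, mul_inv_cancel_right]
    · have hda : ¬Commute d a := fun h' => h (hH.commute_trans ha hx hd h' hxa.symm)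
      exact hH.commute_conj_prod hx ha hd hne hxa h hda hnD
  let N : Subgroup G :=
    { carrier := {g | ∀ d ∈ D, Commute (g * d * g⁻¹) d}
      one_mem' := fun d _ => by simp
      mul_mem' := fun {g k} hg hk d hd => by
        have h1 := hg _ (hH.pt.conj k d hd)
        rw [show g * k * d * (g * k)⁻¹ = g * (k * d * k⁻¹) * g⁻¹ by group]
        exact hH.commute_trans (hH.pt.conj k d hd) hd (hH.pt.conj _ _ (hH.pt.conj k d hd)) h1 (hk d hd)
      inv_mem' := fun {g} hg d hd => by
        have h1 := hH.pt.commute_conj g⁻¹ (hg d hd)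
        rw [show g⁻¹ * (g * d * g⁻¹) * g⁻¹⁻¹ = d by group] at h1
        exact h1.symm }
  haveI hNn : N.Normal := ⟨fun n hn g d hd => by
    have h1 := hH.pt.commute_conj g (hn _ (hH.pt.conj g⁻¹ d hd))
    rw [show g * (n * (g⁻¹ * d * g⁻¹⁻¹) * n⁻¹) * g⁻¹ = g * n * g⁻¹ * d * (g * n * g⁻¹)⁻¹ by group,
      show g * (g⁻¹ * d * g⁻¹⁻¹) * g⁻¹ = d by group] at h1
    exact h1⟩
  have hzN : z ∈ N := hfix
  have hcen : ∀ n ∈ N, n = 1 := by
    intro n hn
    refine hH.eq_one_of_central fun d hd => ?_
    set E := Subgroup.closure {e : G | ∃ k ∈ N, k * d * k⁻¹ = e} with hE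
    have hEc : ∀ s ∈ E, ∀ t ∈ E, s * t = t * s := by
      have hmem : ∀ {e}, (∃ k ∈ N, k * d * k⁻¹ = e) → e ∈ D ∧ Commute e d := by
        rintro e ⟨k, hk, rfl⟩; exact ⟨hH.pt.conj k d hd, hk d hd⟩
      intro s hs t ht
      refine (Subgroup.closure_induction₂ (p := fun s t _ _ => Commute s t) ?_ ?_ ?_ ?_ ?_ ?_ ?_ hs ht).eq
      · intro e f he hf
        obtain ⟨me, ce⟩ := hmem he
        obtain ⟨mf, cf⟩ := hmem hf
        exact hH.commute_trans hd mf me ce cf.symm
      · intro _ _; exact Commute.one_left _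
      · intro _ _; exact Commute.one_right _
      · intro _ _ _ _ _ _ h1 h2; exact h1.mul_left h2
      · intro _ _ _ _ _ _ h1 h2; exact h1.mul_right h2
      · intro _ _ _ _ h; exact h.inv_left
      · intro _ _ _ _ h; exact h.inv_right
    have hEn : ∀ k ∈ N, ∀ s ∈ E, k * s * k⁻¹ ∈ E := by
      intro k hk
      have hle : E ≤ E.comap (MulAut.conj k).toMonoidHom := (Subgroup.closure_le _).2 fun e he => by
        obtain ⟨l, hl, rfl⟩ := he
        exact Subgroup.subset_closure ⟨k * l, N.mul_mem hk hl, by simp [mul_assoc]⟩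
      exact fun s hs => hle hs
    set M := (N ⊓ E).subgroupOf N with hM
    haveI : M.Normal := ⟨fun m hm k =>
      ⟨N.mul_mem (N.mul_mem k.2 m.2) (N.inv_mem k.2), hEn k k.2 _ hm.2⟩⟩
    have hMc : IsMulCommutative M := ⟨⟨fun s t => Subtype.ext (Subtype.ext (hEc _ s.2.2 _ t.2.2))⟩⟩
    have hMF : M ≤ fittingSubgroup N := CfsgLib.Cores.le_fittingSubgroup
      (letI : CommGroup M := { (inferInstance : Group M) with mul_comm := hMc.is_comm.comm }
       CommGroup.isNilpotent)
    have hFbot : (fittingSubgroup N).map N.subtype = ⊥ := by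
      haveI := CfsgLib.Cores.map_subtype_fittingSubgroup_normal N
      refine hH.nsolv _ inferInstance ?_
      haveI := CfsgLib.Cores.isNilpotent_fittingSubgroup (G := N)
      exact Group.isSolvable_of_surjective (f := (fittingSubgroup N).equivMapOfInjective N.subtype
        N.subtype_injective |>.toMonoidHom) (MulEquiv.surjective _)
    have hnd : n * d * n⁻¹ * d⁻¹ ∈ N ⊓ E := by
      refine ⟨?_, E.mul_mem (Subgroup.subset_closure ⟨n, hn, rfl⟩)
        (E.inv_mem (Subgroup.subset_closure ⟨1, N.one_mem, by simp⟩))⟩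
      have := N.mul_mem hn (hNn.conj_mem _ (N.inv_mem hn) d)
      rwa [← mul_assoc, ← mul_assoc] at this
    have h1 : (⟨_, hnd.1⟩ : N) ∈ fittingSubgroup N := hMF hnd
    have h2 : n * d * n⁻¹ * d⁻¹ = 1 := by
      have q : n * d * n⁻¹ * d⁻¹ ∈ (fittingSubgroup N).map N.subtype := ⟨_, h1, rfl⟩
      rwa [hFbot, Subgroup.mem_bot] at q
    rw [mul_inv_eq_one, mul_inv_eq_iff_eq_mul] at h2
    exact h2.symm
  have hz1 := hcen z hzN
  rw [hz] at hz1
  exact hne (by rw [eq_inv_of_mul_eq_one_left hz1, hH.pt.inv_eq ha])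

end Hyp

end CfsgLib.PTransp
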