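import Cfsg.Agent.Lib.PTransp.Equiv
import Cfsg.Agent.Lib.PTransp.Coclique

/-!
# Blocks and lines in a minimal configuration with commuting pairs
-/

set_option autoImplicit false

namespace CfsgLib.PTransp

open Cfsg

variable {G : Type*} [Group G] [Finite G] {p : ℕ} {D : Set G}

/-- A minimal configuration in which every member has a commuting partner. -/
structure Full (p : ℕ) (D : Set G) : Prop extends Hyp p D where
  partner : ∀ x ∈ D, ∃ a ∈ D, a ≠ x ∧ Commute a x

omit [Finite G] in
theorem prime_pow_add_one {p k e : ℕ} (hp : p.Prime) (h5 : 5 ≤ p) (h : p ^ k + 1 = 2 ^ e)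
    (h2 : 2 ≤ p ^ k) : k = 1 := by
  have hodd : Odd p := hp.odd_of_ne_two (by omega)
  have he : 2 ≤ e := by
    by_contra hlt
    interval_cases e <;> omega
  obtain ⟨m, hm⟩ : Odd k := by
    by_contra hk
    obtain ⟨j, rfl⟩ := Nat.not_odd_iff_even.1 hk
    obtain ⟨i, hi⟩ := hodd.pow (n := j)
    rw [pow_add, hi] at h
    have : (2 * i + 1) * (2 * i + 1) + 1 = 4 * (i * i + i) + 2 := by ring
    rw [this] at h
    have h4 : 4 ∣ 2 ^ e := pow_dvd_pow 2 he
    omega
  have hdvd : p + 1 ∣ 2 ^ e := by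
    rw [← h]
    have := (hodd.of_dvd_nat (dvd_refl p))
    simpa using (show Odd k from ⟨m, hm⟩).nat_add_dvd_pow_add_pow p 1
  obtain ⟨f, -, hf⟩ := (Nat.dvd_prime_pow Nat.prime_two).1 hdvd
  have hf1 : 1 ≤ f := by
    by_contra hlt
    interval_cases f
    omega
  -- modulo `2 ^ (f + 1)` the square of `p` is one
  have hz : (p : ZMod (2 ^ (f + 1))) = (2 : ZMod (2 ^ (f + 1))) ^ f - 1 := by
    have h' : ((p + 1 : ℕ) : ZMod (2 ^ (f + 1))) = ((2 ^ f : ℕ) : ZMod (2 ^ (f + 1))) := by rw [hf]
    push_cast at h'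
    linear_combination h'
  have hzero : (2 : ZMod (2 ^ (f + 1))) ^ (f + 1) = 0 := by
    have := ZMod.natCast_self (2 ^ (f + 1))
    push_cast at this
    exact this
  have hsq : (p : ZMod (2 ^ (f + 1))) ^ 2 = 1 := by
    obtain ⟨i, rfl⟩ : ∃ i, f = i + 1 := ⟨f - 1, by omega⟩
    rw [hz]
    linear_combination ((2 : ZMod (2 ^ (i + 1 + 1))) ^ i - 1) * hzero
  have he' : ((2 ^ e : ℕ) : ZMod (2 ^ (f + 1))) = ((2 ^ f : ℕ) : ZMod (2 ^ (f + 1))) := by
    rw [← h, hm, ← hf]
    push_cast
    rw [pow_succ (p : ZMod (2 ^ (f + 1))), pow_mul, hsq, one_pow, one_mul]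
  rw [ZMod.natCast_eq_natCast_iff'] at he'
  have hlt : 2 ^ f < 2 ^ (f + 1) := Nat.pow_lt_pow_right (by norm_num) (by omega)
  rw [Nat.mod_eq_of_lt hlt] at he'
  rcases Nat.lt_trichotomy e f with hl | he2 | hl
  · have : 2 ^ e < 2 ^ f := Nat.pow_lt_pow_right (by norm_num) hl
    rw [Nat.mod_eq_of_lt (this.trans hlt)] at he'
    omega
  · subst he2
    have hk : p ^ k = p ^ 1 := by rw [pow_one]; omega
    exact Nat.pow_right_injective hp.two_le hk
  · rw [Nat.mod_eq_zero_of_dvd (pow_dvd_pow 2 (by omega : f + 1 ≤ e))] at he' <;>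
      have := Nat.two_pow_pos f
    · omega

namespace Hyp

variable (hH : Hyp p D)
include hH

/-- A closed pairwise non-commuting subset has prime power cardinality. -/
theorem ncard_pow_of_closed {S : Set G} (hSD : S ⊆ D) (hne : S.Nonempty)
    (hcl : ∀ e ∈ S, ∀ f ∈ S, e * f * e ∈ S) (hpair : ∀ e ∈ S, ∀ f ∈ S, Commute e f → e = f) :
    ∃ k, S.ncard = p ^ k := by
  set K := Subgroup.closure S with hK
  set T : Set K := ((↑) : K → G) ⁻¹' S with hT
  have hinv : ∀ g ∈ K, ∀ f ∈ S, g * f * g⁻¹ ∈ S := by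
    intro g hg
    induction hg using Subgroup.closure_induction with
    | mem e he => intro f hf; rw [hH.pt.inv_eq (hSD he)]; exact hcl e he f hf
    | one => intro f hf; simpa using hf
    | mul a b _ _ iha ihb => intro f hf; simpa [mul_assoc] using iha _ (ihb f hf)
    | inv a _ iha =>
      intro f hf
      have hinj : Function.Injective (fun s : S => (⟨a * s.1 * a⁻¹, iha _ s.2⟩ : S)) := fun u v h =>
        Subtype.ext (mul_left_cancel (mul_right_cancel (congrArg Subtype.val h)))
      obtain ⟨⟨f', hf'⟩, hff⟩ := Finite.injective_iff_surjective.1 hinj ⟨f, hf⟩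
      have e : a * f' * a⁻¹ = f := congrArg Subtype.val hff
      rw [← e]
      simpa [mul_assoc] using hf'
  have hpt : IsPT p T :=
    { ord := fun d hd => by rw [← Subgroup.orderOf_coe]; exact hH.pt.ord _ (hSD hd)
      conj := fun g d hd => by
        show ((g * d * g⁻¹ : K) : G) ∈ S
        simpa using hinv g g.2 _ hd
      prod := fun d hd e he => by
        rcases hH.pt.prod _ (hSD hd) _ (hSD he) with h | h
        · exact Or.inl (Subtype.ext (by simpa using h))
        · exact Or.inr (Subtype.ext (by simpa using h)) }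
  obtain ⟨x, hx⟩ := hne
  obtain ⟨k, hk⟩ := ncard_coclique hpt hH.hp hH.odd
    (Subgroup.closure_closure_coe_preimage (k := S)) ⟨⟨x, Subgroup.subset_closure hx⟩, hx⟩
    (fun d hd e he h => Subtype.ext (hpair _ hd _ he (congrArg Subtype.val h.eq)))
  refine ⟨k, ?_⟩
  rw [← hk, ← Set.ncard_image_of_injective T Subtype.val_injective]
  congr 1
  ext g
  exact ⟨fun hg => ⟨⟨g, Subgroup.subset_closure hg⟩, hg, rfl⟩, by rintro ⟨g, hg, rfl⟩; exact hg⟩

theorem not_commute_cj' {x e : G} (hx : x ∈ D) (he : e ∈ D) (h : Commute x (e * x * e)) : Commute e x := by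
  by_contra hn
  exact hH.pt.not_commute_cj hH.odd he hx hn h

end Hyp

/-- The members interchanging the blocks of two members. -/
def swapSet (D : Set G) (x y : G) : Set G := {e ∈ D | Commute (e * x * e) y}

/-- The block of a member. -/
def block (D : Set G) (x : G) : Set G := {a ∈ D | Commute a x}

namespace Full

variable (hF : Full p D)
include hF

theorem eq_one_of_fix {g x a d : G} (hx : x ∈ D) (ha : a ∈ D) (hd : d ∈ D) (hne : a ≠ x)
    (hax : Commute a x) (hdx : ¬Commute d x) (gx : Commute g x) (ga : Commute g a) (gd : Commute g d) :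
    g = 1 := by
  have hH := hF.toHyp
  have hy : x * a ∈ D := hH.prod_mem hx ha hne.symm hax.symm
  have hc : x * a * (x * a) = 1 := hH.pt.sq hy
  have hda : ¬Commute d a := fun h => hdx (hH.commute_trans ha hx hd h hax)
  have hdy : ¬Commute d (x * a) := fun h =>
    hdx (hH.commute_trans hy hx hd h ((Commute.refl x).mul_left hax))
  have htop := hH.closure_eq_top (y := x * a) hx ha hy hd hax.symm
    (Subgroup.mul_mem _ (Subgroup.subset_closure (by simp)) (Subgroup.subset_closure (by simp)))
    (by rw [hc]; exact Commute.one_left _) (by rw [hc]; exact Commute.one_left _)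
    (by rw [hc]; exact Commute.one_left _) hdx hda hdy
  refine hH.eq_one_of_central fun u _ => ?_
  have hle : Subgroup.closure ({x, a, d} : Set G) ≤ Subgroup.centralizer {g} :=
    (Subgroup.closure_le _).2 fun v hv => by
      simp only [Set.mem_insert_iff, Set.mem_singleton_iff] at hv
      refine Subgroup.mem_centralizer_singleton_iff.2 ?_
      rcases hv with rfl | rfl | rfl
      exacts [gx.eq.symm, ga.eq.symm, gd.eq.symm]
  rw [htop] at hle
  exact Subgroup.mem_centralizer_singleton_iff.1 (hle (Subgroup.mem_top u))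

theorem ncard_swap {x y : G} (hx : x ∈ D) (hy : y ∈ D) (hxy : ¬Commute x y) :
    (swapSet D x y).ncard = (block D y).ncard := by
  have hH := hF.toHyp
  refine Set.ncard_congr (fun e _ => e * x * e) (fun e he => ⟨hH.pt.cj_mem he.1 hx, he.2⟩) ?_ ?_
  · intro e f he hf h
    by_contra hne
    have hcm : Commute x (e * f) := by
      have q := congrArg (fun t => e * t * f) h
      simp only [mul_assoc, hH.pt.cancel he.1, hH.pt.sq hf.1, mul_one] at q
      show x * (e * f) = (e * f) * x
      rw [q, mul_assoc]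
    have hnex : ¬Commute e x := fun h' => by
      have := he.2
      rw [h'.eq, mul_assoc, hH.pt.sq he.1, mul_one] at this
      exact hxy this
    by_cases hef : Commute e f
    · have hm := hH.prod_mem he.1 hf.1 hne hef
      have h1 : Commute (e * f) e := (Commute.refl e).mul_left hef.symm
      exact hnex (hH.commute_trans hm hx he.1 h1.symm hcm.symm)
    · exact hnex (hH.pt.commute_of_commute_mul hH.odd he.1 hf.1 hx hef hcm).1.symm
  · intro a ha
    have hxa : ¬Commute x a := fun h => hxy (hH.commute_trans ha.1 hy hx h ha.2)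
    obtain ⟨m, hm, hme⟩ := hH.pt.exists_mid hH.odd hx ha.1 hxa
    refine ⟨m, ⟨hm, ?_⟩, hme⟩
    rw [hme]; exact ha.2

theorem swap_not_commute {x y e : G} (hxy : ¬Commute x y) (he : e ∈ swapSet D x y) : ¬Commute e x :=
  fun h => by
    have := he.2
    rw [h.eq, mul_assoc, hF.pt.sq he.1, mul_one] at this
    exact hxy this

theorem swap_pairwise {x y : G} (hx : x ∈ D) (hy : y ∈ D) (hxy : ¬Commute x y) {e f : G}
    (he : e ∈ swapSet D x y) (hf : f ∈ swapSet D x y) (h : Commute e f) : e = f := by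
  have hH := hF.toHyp
  by_contra hne
  have hm := hH.prod_mem he.1 hf.1 hne h
  have mf := hH.pt.cj_mem hf.1 hx
  have h1 : Commute (e * (f * x * f) * e) x := by
    have a1 : Commute (e * (f * x * f) * e) (e * y * e) := (hH.pt.commute_cj_iff he.1).2 hf.2
    have a2 : Commute (e * y * e) x := by
      have := (hH.pt.commute_cj_iff he.1).2 he.2.symm
      simpa [mul_assoc, hH.pt.cancel he.1, hH.pt.sq he.1] using this
    exact hH.commute_trans (hH.pt.cj_mem he.1 hy) hx (hH.pt.cj_mem he.1 mf) a1 a2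
  have h2 : Commute x (e * f * x * (e * f)) := by
    have q : e * f * x * (e * f) = e * (f * x * f) * e := by
      nth_rw 2 [h.eq]; simp [mul_assoc]
    rw [q]; exact h1.symm
  have h3 := hH.not_commute_cj' hx hm h2
  have h4 : Commute (e * f) e := (Commute.refl e).mul_left h.symm
  exact hF.swap_not_commute hxy he (hH.commute_trans hm hx he.1 h4.symm h3)

theorem swap_closed {x y : G} (hx : x ∈ D) (hy : y ∈ D) {e f : G}
    (he : e ∈ swapSet D x y) (hf : f ∈ swapSet D x y) : e * f * e ∈ swapSet D x y := by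
  have hH := hF.toHyp
  refine ⟨hH.pt.cj_mem he.1 hf.1, ?_⟩
  have m1 := hH.pt.cj_mem he.1 hx
  have m2 := hH.pt.cj_mem hf.1 m1
  have a1 : Commute (f * (e * x * e) * f) (f * y * f) := (hH.pt.commute_cj_iff hf.1).2 he.2
  have a2 : Commute (f * y * f) x := by
    have := (hH.pt.commute_cj_iff hf.1).2 hf.2.symm
    simpa [mul_assoc, hH.pt.cancel hf.1, hH.pt.sq hf.1] using this
  have a3 := hH.commute_trans (hH.pt.cj_mem hf.1 hy) hx m2 a1 a2
  have a4 := (hH.pt.commute_cj_iff he.1).2 a3
  rw [show e * f * e * x * (e * f * e) = e * (f * (e * x * e) * f) * e by simp [mul_assoc]]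
  exact hH.commute_trans m1 hy (hH.pt.cj_mem he.1 m2) a4 he.2

theorem ncard_block {x : G} (hx : x ∈ D) : (block D x).ncard = p := by
  have hH := hF.toHyp
  obtain ⟨d, hd, hdx⟩ := hH.exists_not_commute hx
  obtain ⟨a, ha, hax, hc⟩ := hF.partner x hx
  let U : Subgroup G :=
    { carrier := insert 1 (block D x)
      one_mem' := Set.mem_insert _ _
      mul_mem' := fun {s t} hs ht => by
        rcases hs with rfl | hs
        · rw [one_mul]; exact ht
        rcases ht with rfl | ht
        · rw [mul_one]; exact Set.mem_insert_of_mem _ hs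
        by_cases hst : s = t
        · rw [hst, hH.pt.sq ht.1]; exact Set.mem_insert _ _
        · exact Set.mem_insert_of_mem _
            ⟨hH.prod_mem hs.1 ht.1 hst (hH.commute_trans hx ht.1 hs.1 hs.2 ht.2.symm),
              hs.2.mul_left ht.2⟩
      inv_mem' := fun {s} hs => by
        rcases hs with rfl | hs
        · rw [inv_one]; exact Set.mem_insert _ _
        · rw [hH.pt.inv_eq hs.1]; exact Set.mem_insert_of_mem _ hs }
  haveI := Fact.mk Nat.prime_two
  have hU : IsPGroup 2 U := fun s => ⟨1, Subtype.ext (by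
    rw [pow_one, Subgroup.coe_pow, Subgroup.coe_one, pow_two]
    rcases s.2 with h | h
    · rw [h, one_mul]
    · exact hH.pt.sq h.1)⟩
  obtain ⟨e, he⟩ := IsPGroup.iff_card.1 hU
  have hcard : Nat.card U = (block D x).ncard + 1 := by
    show Nat.card (insert 1 (block D x) : Set G) = _
    rw [Nat.card_coe_set_eq, Set.ncard_insert_of_notMem (fun h => hH.pt.ne_one h.1 rfl)]
  have htwo : 2 ≤ (block D x).ncard := by
    have : ({x, a} : Set G) ⊆ block D x := by
      simp only [Set.insert_subset_iff, Set.singleton_subset_iff]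
      exact ⟨⟨hx, Commute.refl x⟩, ha, hc⟩
    have h2 := Set.ncard_le_ncard this
    rwa [Set.ncard_pair (Ne.symm hax)] at h2
  obtain ⟨k, hk⟩ : ∃ k, (swapSet D d x).ncard = p ^ k := by
    refine hH.ncard_pow_of_closed (fun e he => he.1) ?_ (fun e he f hf => hF.swap_closed hd hx he hf)
      (fun e he f hf h => hF.swap_pairwise hd hx hdx he hf h)
    exact Set.nonempty_of_ncard_ne_zero (by rw [hF.ncard_swap hd hx hdx]; omega)
  rw [hF.ncard_swap hd hx hdx] at hk
  rw [hk] at hcard htwo
  rw [hk, prime_pow_add_one hH.hp hH.five (hcard.symm.trans he) htwo, pow_one]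

theorem swap_eq {x y e f : G} (hx : x ∈ D) (hy : y ∈ D) (hxy : ¬Commute x y)
    (he : e ∈ swapSet D x y) (hf : f ∈ swapSet D x y) (hef : e ≠ f) :
    ∀ g ∈ swapSet D x y, ∃ k : ℕ, g = e * (e * f) ^ k := by
  have hH := hF.toHyp
  have hn : ¬Commute e f := fun h => hef (hF.swap_pairwise hx hy hxy he hf h)
  set r := e * f with hr
  have hmem : ∀ k : ℕ, e * r ^ k ∈ swapSet D x y ∧ e * r ^ (k + 1) ∈ swapSet D x y := by
    intro k
    induction k with
    | zero =>
      refine ⟨by simpa using he, ?_⟩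
      rw [zero_add, pow_one, hr, hH.pt.cancel he.1]; exact hf
    | succ k ih =>
      refine ⟨ih.2, ?_⟩
      have := hF.swap_closed hx hy ih.2 ih.1
      have q : e * r ^ (k + 1) * (e * r ^ k) * (e * r ^ (k + 1)) = e * r ^ (k + 1 + 1) := by
        have q1 : e * r ^ k * e = (r ^ k)⁻¹ := by
          have := hH.pt.conj_zpow he.1 hf.1 (k : ℤ)
          rwa [zpow_natCast, zpow_neg, zpow_natCast] at this
        calc e * r ^ (k + 1) * (e * r ^ k) * (e * r ^ (k + 1))
            = e * r ^ (k + 1) * (e * r ^ k * e) * r ^ (k + 1) := by simp [mul_assoc]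
          _ = e * r ^ (k + 1 + 1) := by rw [q1, pow_succ', pow_succ' r (k + 1), pow_succ']; group
      rwa [q] at this
  have hp0 : orderOf r = p := by
    haveI := Fact.mk hH.hp
    exact orderOf_eq_prime (hH.pt.pow_p he.1 hf.1 hn) fun h => hef (by
      rw [eq_inv_of_mul_eq_one_left h, hH.pt.inv_eq hf.1])
  have hsub : (fun k : ℕ => e * r ^ k) '' Set.Iio p ⊆ swapSet D x y := by
    rintro _ ⟨k, -, rfl⟩; exact (hmem k).1
  have hinj : Set.InjOn (fun k : ℕ => e * r ^ k) (Set.Iio p) := fun i hi j hj h => by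
    have h' := mul_left_cancel h
    exact pow_injOn_Iio_orderOf (by rwa [hp0]) (by rwa [hp0]) h'
  have heq := Set.eq_of_subset_of_ncard_le hsub (by
    rw [hinj.ncard_image, hF.ncard_swap hx hy hxy, hF.ncard_block hy, ← Finset.coe_Iio, Set.ncard_coe_finset,
      Nat.card_Iio])
  intro g hg
  rw [← heq] at hg
  obtain ⟨k, -, rfl⟩ := hg
  exact ⟨k, rfl⟩

theorem pair_mem {d e c : G} (hd : d ∈ D) (he : e ∈ D) (hc : c ∈ D) (hde : ¬Commute d e)
    (hfix : Commute (d * e * c * (d * e)⁻¹) c) :
    ¬Commute c (d * c * d) ∧ d ∈ swapSet D c (d * c * d) ∧ e ∈ swapSet D c (d * c * d) := by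
  have hH := hF.toHyp
  have hfix' : Commute (d * (e * c * e) * d) c := by
    rw [mul_inv_rev, hH.pt.inv_eq hd, hH.pt.inv_eq he] at hfix
    simpa [mul_assoc] using hfix
  have h2 : Commute (e * c * e) (d * c * d) := by
    have := (hH.pt.commute_cj_iff hd).2 hfix'
    simpa [mul_assoc, hH.pt.cancel hd, hH.pt.sq hd] using this
  refine ⟨fun h => ?_, ⟨hd, Commute.refl _⟩, he, h2⟩
  have hdc := hH.not_commute_cj' hc hd h
  rw [show d * c * d = c by rw [hdc.eq, mul_assoc, hH.pt.sq hd, mul_one]] at h2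
  have hec := hH.not_commute_cj' hc he h2.symm
  exact hde (hH.commute_trans hc he hd hdc hec.symm)

end Full

end CfsgLib.PTransp
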