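import Cfsg.Agent.Lib.PTransp.Endgame
import Cfsg.Agent.Lib.Invol.ZStarFinal
import Cfsg.Agent.S0205

/-!
# A group generated by involutions with products of order `2` or a prime `p ≥ 5` is solvable
-/

set_option autoImplicit false

universe u

namespace CfsgLib.PTransp

open Cfsg

/-- An isolated involution is trivial when no nontrivial solvable normal subgroup exists. -/
theorem not_isolated {G : Type u} [Group G] [Finite G]
    (hsol : ∀ N : Subgroup G, N.Normal → Group.IsSolvable N → N = ⊥) {x : G}
    (h : IsIsolatedInvolution x) : False := by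
  haveI : (oddCore G).Normal := by
    haveI := CfsgLib.Cores.pPrimeCore_characteristic (G := G) 2
    exact (inferInstance : (pPrimeCore 2 G).Normal)
  have hO : oddCore G = ⊥ :=
    hsol _ inferInstance (Cfsg.Agent.S0205.result CfsgLib.Cores.odd_card_oddCore)
  have hc := CfsgLib.Invol.zstar_center h hO
  have hZ : Subgroup.center G = ⊥ := hsol _ inferInstance (Group.isSolvable_of_comm fun a b =>
    Subtype.ext (Subgroup.mem_center_iff.1 b.2 a))
  rw [hZ, Subgroup.mem_bot] at hc
  have h2 := h.1
  rw [hc, orderOf_one] at h2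
  omega

theorem isSolvable_of_pt {p : ℕ} (hp : p.Prime) (h5 : 5 ≤ p) : ∀ (n : ℕ) (G : Type u) [Group G] [Finite G],
    Nat.card G = n → ∀ D : Set G, IsPT p D → Subgroup.closure D = ⊤ → Group.IsSolvable G := by
  intro n
  induction n using Nat.strong_induction_on with
  | _ n ih =>
  intro G _ _ hn D hD hgen
  by_cases hN : ∀ N : Subgroup G, N.Normal → Group.IsSolvable N → N = ⊥
  · rcases D.eq_empty_or_nonempty with hemp | ⟨x, hx⟩
    · rw [hemp, Subgroup.closure_empty] at hgen
      exact Group.isSolvable_of_top_eq_bot _ hgen.symm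
    have hH : Hyp p D := by
      refine ⟨hD, hp, h5, hgen, hN, fun S hS hne => ?_⟩
      set K := Subgroup.closure S
      refine ih (Nat.card K) ?_ K rfl (((↑) : K → G) ⁻¹' D) (hD.subgroup K) ?_
      · rw [← hn]
        exact lt_of_le_of_ne (Subgroup.card_le_card_group _) fun h => hne (Subgroup.eq_top_of_card_eq _ h)
      · refine top_le_iff.1 (le_of_eq_of_le ?_ (Subgroup.closure_mono (Set.preimage_mono hS)))
        exact (Subgroup.closure_closure_coe_preimage (k := S)).symm
    exfalso
    have hfull : Full p D := by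
      refine ⟨hH, fun y hy => ?_⟩
      by_contra hno
      push Not at hno
      refine not_isolated hN ⟨hD.ord y hy, fun g hc => ?_⟩ (x := y)
      by_contra hne
      exact hno _ (hD.conj g y hy) hne hc.symm
    exact hfull.contra hx
  · push Not at hN
    obtain ⟨N, hNn, hNs, hNne⟩ := hN
    haveI := hNn
    haveI := hNs
    set π := QuotientGroup.mk' N
    have hsurj : Function.Surjective π := QuotientGroup.mk'_surjective N
    have hcard : Nat.card (G ⧸ N) < n := by
      rw [← hn]
      have h1 := Subgroup.card_eq_card_quotient_mul_card_subgroup N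
      have h2 : 1 < Nat.card N := Subgroup.one_lt_card_iff_ne_bot _ |>.2 hNne
      have h3 : 0 < Nat.card (G ⧸ N) := Nat.card_pos
      rw [h1]
      exact lt_mul_of_one_lt_right h3 h2
    have hpt : IsPT p ((π '' D) \ {1}) := by
      refine ⟨?_, ?_, ?_⟩
      · rintro _ ⟨⟨d, hd, rfl⟩, hne⟩
        refine orderOf_eq_prime ?_ hne
        rw [← map_pow, pow_two, hD.sq hd, map_one]
      · rintro g _ ⟨⟨d, hd, rfl⟩, hne⟩
        obtain ⟨k, rfl⟩ := hsurj g
        refine ⟨⟨k * d * k⁻¹, hD.conj k d hd, by simp⟩, fun h => hne ?_⟩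
        rw [Set.mem_singleton_iff] at h ⊢
        calc π d = (π k)⁻¹ * (π k * π d * (π k)⁻¹) * π k := by group
          _ = 1 := by rw [h]; group
      · rintro _ ⟨⟨d, hd, rfl⟩, -⟩ _ ⟨⟨e, he, rfl⟩, -⟩
        rcases hD.prod d hd e he with h | h
        · exact Or.inl (by rw [← map_mul, ← map_pow, h, map_one])
        · exact Or.inr (by rw [← map_mul, ← map_pow, h, map_one])
    have hgenq : Subgroup.closure ((π '' D) \ {1}) = ⊤ := by
      rw [Subgroup.closure_sdiff_one, ← MonoidHom.map_closure, hgen, Subgroup.map_top_of_surjective _ hsurj]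
    haveI := ih _ hcard (G ⧸ N) rfl _ hpt hgenq
    exact Group.isSolvable_of_ker_le_range N.subtype π (by simp [π])

end CfsgLib.PTransp
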