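import Cfsg.Agent.Lib.PTransp.Basic
import Cfsg.Agent.Lib.Solvable.Fitting
import Cfsg.Agent.Lib.Solvable.Generation

/-!
# Three commuting involutions with central product in a solvable group
-/

set_option autoImplicit false

namespace CfsgLib.PTransp

open Cfsg

variable {K : Type*} [Group K] [Finite K] {p : ℕ}

omit [Finite K] in
/-- The fixed points of a product are fixed by each factor. -/
theorem commute_of_fixed_prod {F : Subgroup K} [F.Normal] (hF : ∀ u ∈ F, u ^ 2 = 1 → u = 1) (hp : Odd p)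
    {X T : K} (hX : X * X = 1) (hT : T * T = 1) (hXT : Commute X T) (hne : X * T ≠ 1)
    (hprod : ∀ g : K, (g * X * g⁻¹ * T) ^ 2 = 1 ∨ (g * X * g⁻¹ * T) ^ p = 1) {f : K} (hf : f ∈ F)
    (hc : Commute f (X * T)) : Commute f X := by
  set u := f * X * f⁻¹ * X with hu
  have hXinv : X⁻¹ = X := inv_eq_of_mul_eq_one_right hX
  have huF : u ∈ F := by
    have h1 : X * f⁻¹ * X⁻¹ ∈ F := Subgroup.Normal.conj_mem inferInstance _ (F.inv_mem hf) X
    have := F.mul_mem hf h1
    rwa [hXinv, ← mul_assoc, ← mul_assoc] at this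
  have hW : (X * T) ^ 2 = 1 := by rw [hXT.mul_pow, pow_two, pow_two, hX, hT, one_mul]
  have hcu : Commute u (X * T) := by
    have hXW : Commute X (X * T) := (Commute.refl X).mul_right hXT
    exact ((hc.mul_left hXW).mul_left hc.inv_left).mul_left hXW
  have e : f * X * f⁻¹ * T = u * (X * T) := by
    rw [hu, mul_assoc (f * X * f⁻¹) X, ← mul_assoc X X T, hX, one_mul]
  have h1 : u = 1 := by
    rcases hprod f with h | h <;> rw [e, hcu.mul_pow] at h
    · rw [hW, mul_one] at h
      exact hF u huF h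
    · exfalso
      obtain ⟨j, rfl⟩ := hp
      rw [pow_succ (X * T), pow_mul, hW, one_pow, one_mul] at h
      refine hne (hF _ ?_ hW)
      rw [eq_inv_of_mul_eq_one_right h]
      exact F.inv_mem (F.pow_mem huF _)
  show f * X = X * f
  have q : f * X * f⁻¹ = X := by
    have := eq_inv_of_mul_eq_one_left h1
    rwa [hXinv] at this
  nth_rw 2 [← q]
  simp

/-- A solvable group has no three commuting involutions with central product among an involution set
with products of order `2` or `p`, each inverting an element of order `p`. -/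
theorem no_central_triple [Group.IsSolvable K] (hp : Odd p) {D : Set K} (hD : IsPT p D) {x a y : K}
    (hx : x ∈ D) (ha : a ∈ D) (hy : y ∈ D) (hxa : Commute x a) (hz : x * a * y ∈ Subgroup.center K)
    (wx : ∃ d ∈ D, ¬Commute d x) (wa : ∃ d ∈ D, ¬Commute d a) (wy : ∃ d ∈ D, ¬Commute d y) : False := by
  classical
  have := Fact.mk Nat.prime_two
  set N := pCore 2 K with hN
  haveI hNn : N.Normal := by
    have := CfsgLib.Cores.pCore_characteristic (G := K) 2
    infer_instance
  have hNp : IsPGroup 2 N := CfsgLib.Cores.isPGroup_pCore 2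
  have hnot : ∀ {t : K}, t ∈ D → (∃ d ∈ D, ¬Commute d t) → t ∉ N := by
    rintro t ht ⟨d, hd, hdt⟩ hmem
    have h1 : (d * t) ^ 2 ∈ N := by
      rw [pow_two, show d * t * (d * t) = (d * t * d) * t by simp [mul_assoc]]
      refine N.mul_mem ?_ hmem
      have := hNn.conj_mem _ hmem d
      rwa [hD.inv_eq hd] at this
    obtain ⟨k, hk⟩ := hNp ⟨_, h1⟩
    have hk' : ((d * t) ^ 2) ^ 2 ^ k = 1 := congrArg Subtype.val hk
    have hw : ((d * t) ^ 2) ^ p = 1 := by
      rw [← pow_mul, mul_comm, pow_mul, hD.pow_p hd ht hdt, one_pow]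
    have h2 : (d * t) ^ 2 = 1 := by
      rw [← orderOf_eq_one_iff]
      refine Nat.eq_one_of_dvd_coprimes ?_ (orderOf_dvd_of_pow_eq_one hk') (orderOf_dvd_of_pow_eq_one hw)
      exact Nat.Coprime.pow_left _ (Nat.coprime_two_left.2 hp)
    exact hdt ((hD.commute_iff hd ht).2 h2)
  set π := QuotientGroup.mk' N with hπ
  have hsurj : Function.Surjective π := QuotientGroup.mk'_surjective N
  set X := π x with hX
  set A := π a with hA
  set Y := π y with hY
  have hker : ∀ {g : K}, π g = 1 ↔ g ∈ N := fun {g} => QuotientGroup.eq_one_iff g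
  have sqi : ∀ {t : K}, t ∈ D → π t * π t = 1 := fun ht => by rw [← map_mul, hD.sq ht, map_one]
  have hX1 : X ≠ 1 := fun h => hnot hx wx (hker.1 h)
  have hA1 : A ≠ 1 := fun h => hnot ha wa (hker.1 h)
  have hY1 : Y ≠ 1 := fun h => hnot hy wy (hker.1 h)
  have hXA : Commute X A := hxa.map π
  have hc0 : X * A * Y = 1 := by
    rw [hX, hA, hY, ← map_mul, ← map_mul, hker]
    set c := x * a * y with hc
    have hcc : ∀ g, c * g = g * c := fun g => (Subgroup.mem_center_iff.1 hz g).symm
    have hinv : c ^ 2 = 1 := by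
      have hy' : Commute (x * a) y := by
        show x * a * y = y * (x * a)
        have q := hcc y
        rw [hc] at q
        have q2 := congrArg (· * y) q
        simpa [mul_assoc, hD.sq hy] using q2
      rw [hc, hy'.mul_pow, hxa.mul_pow, pow_two, pow_two, pow_two, hD.sq hx, hD.sq ha, hD.sq hy]
      simp
    have hle : Subgroup.zpowers c ≤ N := by
      haveI : (Subgroup.zpowers c).Normal := ⟨fun m hm g => by
        obtain ⟨k, rfl⟩ := Subgroup.mem_zpowers_iff.1 hm
        rw [← conj_zpow, ← hcc g, mul_inv_cancel_right]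
        exact Subgroup.zpow_mem _ (Subgroup.mem_zpowers c) k⟩
      refine CfsgLib.Cores.le_pCore fun m => ⟨1, Subtype.ext ?_⟩
      obtain ⟨k, hk⟩ := Subgroup.mem_zpowers_iff.1 m.2
      rw [pow_one, Subgroup.coe_pow, Subgroup.coe_one, ← hk, ← zpow_natCast, ← zpow_mul, mul_comm, zpow_mul,
        zpow_natCast, hinv, one_zpow]
    exact hle (Subgroup.mem_zpowers c)
  have hYe : Y = X * A := by
    have q := eq_inv_of_mul_eq_one_right hc0
    rw [q, mul_inv_rev, inv_eq_of_mul_eq_one_right (sqi ha), inv_eq_of_mul_eq_one_right (sqi hx)]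
    exact hXA.eq.symm
  have hXne : X ≠ A := fun h => hY1 (by rw [hYe, h]; exact sqi ha)
  -- the Fitting subgroup has odd order
  set F := fittingSubgroup (K ⧸ N) with hF
  haveI hFn : F.Normal := CfsgLib.Cores.fittingSubgroup_normal
  have hFodd : Odd (Nat.card F) := by
    have hle : F ≤ oddCore (K ⧸ N) := by
      rw [hF, CfsgLib.Cores.fittingSubgroup_eq_iSup_pCore]
      refine iSup_le fun q => ?_
      have := Fact.mk (Nat.prime_of_mem_primeFactors q.2)
      by_cases hq : (q : ℕ) = 2
      · rw [hq]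
        exact le_of_eq_of_le (CfsgLib.Cores.pCore_quotient_self 2) bot_le
      · haveI : (pCore (q : ℕ) (K ⧸ N)).Normal := by
          have := CfsgLib.Cores.pCore_characteristic (G := K ⧸ N) q
          infer_instance
        refine CfsgLib.Cores.le_oddCore_of_odd ?_
        obtain ⟨n, hn⟩ := CfsgLib.Cores.card_pCore_eq_pow (G := K ⧸ N) (q : ℕ)
        rw [hn]
        exact ((Nat.prime_of_mem_primeFactors q.2).odd_of_ne_two hq).pow
    exact CfsgLib.Cores.odd_card_oddCore.of_dvd_nat (Subgroup.card_dvd_of_le hle)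
  have hF1 : ∀ u ∈ F, u ^ 2 = 1 → u = 1 := fun u hu h => by
    have h2 : (⟨u, hu⟩ : F) ^ 2 = 1 := Subtype.ext h
    exact congrArg Subtype.val (eq_one_of_two_of_odd hFodd h2 pow_card_eq_one')
  -- the four-group
  let V : Subgroup (K ⧸ N) :=
    { carrier := {1, X, A, X * A}
      one_mem' := Or.inl rfl
      mul_mem' := by
        intro s t hs ht
        simp only [Set.mem_insert_iff, Set.mem_singleton_iff] at hs ht ⊢
        have eX : X * X = 1 := sqi hx
        have eA : A * A = 1 := sqi ha
        have e1 : A * X = X * A := hXA.eq.symm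
        have e2 : ∀ r, A * (X * r) = X * (A * r) := fun r => by rw [← mul_assoc, e1, mul_assoc]
        have e3 : ∀ r, X * (X * r) = r := fun r => by rw [← mul_assoc, eX, one_mul]
        have e4 : ∀ r, A * (A * r) = r := fun r => by rw [← mul_assoc, eA, one_mul]
        rcases hs with rfl | rfl | rfl | rfl <;> rcases ht with rfl | rfl | rfl | rfl <;>
          simp [mul_assoc, e1, e2, e3, e4, eX, eA]
      inv_mem' := by
        intro s hs
        simp only [Set.mem_insert_iff, Set.mem_singleton_iff] at hs ⊢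
        rcases hs with rfl | rfl | rfl | rfl
        · simp
        · rw [inv_eq_of_mul_eq_one_right (sqi hx)]; simp [hX]
        · rw [inv_eq_of_mul_eq_one_right (sqi ha)]; simp [hA]
        · rw [mul_inv_rev, inv_eq_of_mul_eq_one_right (sqi hx), inv_eq_of_mul_eq_one_right (sqi ha)]
          exact Or.inr (Or.inr (Or.inr hXA.eq.symm)) }
  have hVmem : ∀ s, s ∈ V ↔ s = 1 ∨ s = X ∨ s = A ∨ s = X * A := fun s => by
    show s ∈ ({1, X, A, X * A} : Set (K ⧸ N)) ↔ _
    simp
  have hVsq : ∀ s ∈ V, s ^ 2 = 1 := by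
    intro s hs
    rcases (hVmem s).1 hs with rfl | rfl | rfl | rfl
    · simp
    · rw [pow_two]; exact sqi hx
    · rw [pow_two]; exact sqi ha
    · rw [hXA.mul_pow, pow_two, pow_two, hX, hA, sqi hx, sqi ha, one_mul]
  have hVcomm : ∀ s ∈ V, ∀ t ∈ V, s * t = t * s := by
    intro s hs t ht
    have e := hVsq _ (V.mul_mem hs ht)
    rw [pow_two] at e
    have := eq_inv_of_mul_eq_one_left e
    rw [mul_inv_rev] at this
    rw [inv_eq_of_mul_eq_one_right (by rw [← pow_two]; exact hVsq t ht),
      inv_eq_of_mul_eq_one_right (by rw [← pow_two]; exact hVsq s hs)] at this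
    exact this
  have hVnc : ¬ IsCyclic V := by
    intro hc
    obtain ⟨g, hg⟩ := hc.exists_generator
    have key : ∀ s : V, s = 1 ∨ s = g := fun s => by
      obtain ⟨k, rfl⟩ := Subgroup.mem_zpowers_iff.1 (hg s)
      have h2 : g ^ (2 : ℤ) = 1 := by rw [zpow_two, ← pow_two]; exact Subtype.ext (hVsq _ g.2)
      rcases Int.even_or_odd k with ⟨m, rfl⟩ | ⟨m, rfl⟩
      · left; rw [← two_mul, zpow_mul, h2, one_zpow]
      · right; rw [zpow_add, zpow_mul, h2, one_zpow, one_mul, zpow_one]
    rcases key ⟨X, (hVmem X).2 (by simp)⟩ with h | h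
    · exact hX1 (congrArg Subtype.val h)
    rcases key ⟨A, (hVmem A).2 (by simp)⟩ with h' | h'
    · exact hA1 (congrArg Subtype.val h')
    · exact hXne (congrArg Subtype.val (h.trans h'.symm))
  have hVN : V ≤ Subgroup.normalizer (F : Set (K ⧸ N)) := by
    rw [Subgroup.normalizer_eq_top]; exact le_top
  have hcop : (Nat.card V).Coprime (Nat.card F) := by
    have hV2 : IsPGroup 2 V := fun s => ⟨1, by rw [pow_one]; exact Subtype.ext (hVsq _ s.2)⟩
    obtain ⟨k, hk⟩ := IsPGroup.iff_card.1 hV2
    rw [hk]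
    exact Nat.Coprime.pow_left _ (Nat.coprime_two_left.2 hFodd)
  have hpair : ∀ {s t : K}, s ∈ D → t ∈ D → ∀ g : K ⧸ N,
      (g * π s * g⁻¹ * π t) ^ 2 = 1 ∨ (g * π s * g⁻¹ * π t) ^ p = 1 := by
    intro s t hs ht g
    obtain ⟨k, rfl⟩ := hsurj g
    rw [← map_mul, ← map_inv, ← map_mul, ← map_mul, ← map_pow, ← map_pow]
    rcases hD.prod _ (hD.conj k s hs) t ht with h | h
    · exact Or.inl (by rw [h, map_one])
    · exact Or.inr (by rw [h, map_one])
  have hFX : F ≤ Subgroup.centralizer {X} := by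
    rw [← CfsgLib.Solvable.iSup_centralizer_eq hVcomm hVnc hVN hcop]
    refine iSup₂_le fun s hs f hf => ?_
    obtain ⟨hsV, hs1⟩ := hs
    have hfF : f ∈ F := hf.1
    have hfs : Commute f s := Subgroup.mem_centralizer_singleton_iff.1 hf.2
    rw [Subgroup.mem_centralizer_singleton_iff]
    rcases (hVmem s).1 hsV with e | e | e | e <;> rw [e] at hfs hs1
    · exact absurd rfl hs1
    · exact hfs.eq
    · have hne : X * Y ≠ 1 := by rw [hYe, ← mul_assoc, hX, sqi hx, one_mul]; exact hA1
      have hXY : Commute X Y := by rw [hYe]; exact (Commute.refl X).mul_right hXA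
      refine (commute_of_fixed_prod hF1 hp (sqi hx) (sqi hy) hXY hne (hpair hx hy) hfF ?_).eq
      show Commute f (X * Y)
      rw [hYe, ← mul_assoc, show X * X = 1 from sqi hx, one_mul]
      exact hfs
    · exact (commute_of_fixed_prod hF1 hp (sqi hx) (sqi ha) hXA hs1 (hpair hx ha) hfF hfs).eq
  have : Group.IsSolvable (K ⧸ N) := inferInstance
  have hXF : X ∈ F := CfsgLib.Solvable.centralizer_fittingSubgroup_le
    (Subgroup.mem_centralizer_iff.2 fun f hf => Subgroup.mem_centralizer_singleton_iff.1 (hFX hf))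
  exact hX1 (hF1 X hXF (by rw [pow_two]; exact sqi hx))

end CfsgLib.PTransp
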